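import Groth.Agent.SubtrLib.ValLift
import Groth.Agent.JacDesc.Basic
import Mathlib

/-!
# Absolutely integrally closed valuation rings as test objects

A morphism locally of finite type is universally S-subtrusive iff all morphisms from spectra of valuation
rings in which every monic polynomial has a root lift to the source.
-/

set_option autoImplicit false
set_option linter.style.haveILetI false
universe u

open CategoryTheory CategoryTheory.Limits AlgebraicGeometry

namespace Groth.Agent.SubtrLib

/-- Every monic polynomial of positive degree has a root. -/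
def IsAIC (V : Type u) [CommRing V] : Prop :=
  ∀ g : Polynomial V, g.Monic → 0 < g.natDegree → ∃ x, g.eval x = 0

theorem IsAIC.mem_range_of_isIntegral {V E : Type u} [CommRing V] [CommRing E] [IsDomain E] [Algebra V E]
    (hV : IsAIC V) {x : E} (hx : IsIntegral V x) : x ∈ Set.range (algebraMap V E) := by
  haveI : Nontrivial V := (algebraMap V E).domain_nontrivial
  suffices ∀ (n : ℕ) (g : Polynomial V), g.Monic → g.natDegree = n → Polynomial.aeval x g = 0 →
      x ∈ Set.range (algebraMap V E) by
    obtain ⟨g, hg, hgx⟩ := hx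
    exact this _ g hg rfl hgx
  intro n
  induction n with
  | zero =>
    intro g hg hd h0
    rw [hg.natDegree_eq_zero.mp hd, map_one] at h0
    exact absurd h0 one_ne_zero
  | succ n ih =>
    intro g hg hd h0
    obtain ⟨a, ha⟩ := hV g hg (by omega)
    obtain ⟨g', hg'⟩ := Polynomial.dvd_iff_isRoot.mpr ha
    have hgm : g'.Monic := (Polynomial.monic_X_sub_C a).of_mul_monic_left (hg' ▸ hg)
    rw [hg', map_mul, map_sub, Polynomial.aeval_X, Polynomial.aeval_C] at h0
    rcases mul_eq_zero.mp h0 with h | h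
    · exact ⟨a, (sub_eq_zero.mp h).symm⟩
    · refine ih g' hgm ?_ h
      rw [hg', (Polynomial.monic_X_sub_C a).natDegree_mul hgm, Polynomial.natDegree_X_sub_C] at hd
      omega

variable {V : Type u} [CommRing V] [IsDomain V] [ValuationRing V]

/-- An algebraic local extension domain of an absolutely integrally closed valuation ring is trivial. -/
theorem bijective_of_isAlgebraic (hV : IsAIC V) {E : Type u} [CommRing E] [IsDomain E] [Algebra V E]
    [Algebra.IsAlgebraic V E] (hinj : Function.Injective (algebraMap V E))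
    (hne : (IsLocalRing.maximalIdeal V).map (algebraMap V E) ≠ ⊤) :
    Function.Bijective (algebraMap V E) := by
  refine ⟨hinj, fun x => ?_⟩
  obtain ⟨a, ha, hax⟩ := (Algebra.IsAlgebraic.isAlgebraic (R := V) x).exists_integral_multiple
  obtain ⟨v, hv⟩ := hV.mem_range_of_isIntegral hax
  have hna : algebraMap V E a ≠ 0 := fun h => ha (hinj (h.trans (map_zero _).symm))
  rw [Algebra.smul_def] at hv
  rcases ValuationRing.dvd_total a v with ⟨w, rfl⟩ | ⟨w, rfl⟩
  · exact ⟨w, mul_left_cancel₀ hna (by rw [← map_mul]; exact hv)⟩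
  · have hv0 : algebraMap V E v ≠ 0 := fun h => hna (by rw [map_mul, h, zero_mul])
    have h1 : algebraMap V E w * x = 1 := mul_left_cancel₀ hv0 (by
      rw [mul_one, ← mul_assoc, ← map_mul]; exact hv.symm)
    by_cases hw : IsUnit w
    · obtain ⟨w', rfl⟩ := hw
      refine ⟨(↑w'⁻¹ : V), ?_⟩
      rw [← mul_one (algebraMap V E ↑w'⁻¹), ← h1, ← mul_assoc, ← map_mul, Units.inv_mul, map_one, one_mul]
    · exact absurd (Ideal.eq_top_of_isUnit_mem _ (Ideal.mem_map_of_mem _
        ((IsLocalRing.mem_maximalIdeal w).mpr hw)) (IsUnit.of_mul_eq_one x h1)) hne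

/-- A finite type algebra with a specialisation from the generic to the closed fibre has a section. -/
theorem exists_algHom_of_primes (hV : IsAIC V) {C : Type u} [CommRing C] [Algebra V C]
    [Algebra.FiniteType V C] (q' q : Ideal C) [q'.IsPrime] [q.IsPrime] (hle : q' ≤ q)
    (h' : q'.comap (algebraMap V C) = ⊥) (h : q.comap (algebraMap V C) = IsLocalRing.maximalIdeal V) :
    Nonempty (C →ₐ[V] V) := by
  haveI : Algebra.FiniteType V (C ⧸ q') :=
    Algebra.FiniteType.of_surjective (Ideal.Quotient.mkₐ V q') Ideal.Quotient.mk_surjective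
  have hinj : Function.Injective (algebraMap V (C ⧸ q')) := by
    rw [injective_iff_map_eq_zero]
    intro a ha
    exact Ideal.mem_bot.mp (h' ▸ (Ideal.Quotient.eq_zero_iff_mem.mp ha : algebraMap V C a ∈ q'))
  haveI : FaithfulSMul V (C ⧸ q') := (faithfulSMul_iff_algebraMap_injective _ _).mpr hinj
  haveI : Module.Flat V (C ⧸ q') := by
    exact Module.Flat.flat_iff_torsion_eq_bot_of_isBezout.mpr
      (Submodule.isTorsionFree_iff_torsion_eq_bot.mp inferInstance)
  have hne : (IsLocalRing.maximalIdeal V).map (algebraMap V (C ⧸ q')) ≠ ⊤ := by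
    intro htop
    have hp : (q.map (Ideal.Quotient.mk q')).IsPrime :=
      Ideal.map_isPrime_of_surjective Ideal.Quotient.mk_surjective (by simpa using hle)
    refine hp.ne_top (top_le_iff.mp (htop ▸ Ideal.map_le_iff_le_comap.mpr fun a ha => ?_))
    show Ideal.Quotient.mk q' (algebraMap V C a) ∈ q.map (Ideal.Quotient.mk q')
    exact Ideal.mem_map_of_mem _ (show algebraMap V C a ∈ q by rw [← h] at ha; exact ha)
  obtain ⟨P, q₁, hP, hq₁, hPq, hP0, hq1m, halg⟩ := JacDesc.exists_prime_algebraic hne
  have hinjP : Function.Injective (algebraMap V ((C ⧸ q') ⧸ P)) := by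
    rw [injective_iff_map_eq_zero]
    intro a ha
    exact Ideal.mem_bot.mp (hP0 ▸ (Ideal.Quotient.eq_zero_iff_mem.mp ha : algebraMap V (C ⧸ q') a ∈ P))
  have hneP : (IsLocalRing.maximalIdeal V).map (algebraMap V ((C ⧸ q') ⧸ P)) ≠ ⊤ := by
    intro htop
    have hp : (q₁.map (Ideal.Quotient.mk P)).IsPrime :=
      Ideal.map_isPrime_of_surjective Ideal.Quotient.mk_surjective (by simpa using hPq)
    refine hp.ne_top (top_le_iff.mp (htop ▸ Ideal.map_le_iff_le_comap.mpr fun a ha => ?_))
    show Ideal.Quotient.mk P (algebraMap V (C ⧸ q') a) ∈ q₁.map (Ideal.Quotient.mk P)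
    exact Ideal.mem_map_of_mem _ (show algebraMap V (C ⧸ q') a ∈ q₁ by rw [← hq1m] at ha; exact ha)
  let e := AlgEquiv.ofBijective (Algebra.ofId V ((C ⧸ q') ⧸ P)) (bijective_of_isAlgebraic hV hinjP hneP)
  exact ⟨e.symm.toAlgHom.comp ((Ideal.Quotient.mkₐ V P).comp (Ideal.Quotient.mkₐ V q'))⟩

/-- Universally S-subtrusive morphisms of finite type have sections over absolutely integrally closed
valuation rings. -/
theorem exists_section {X Y : Scheme.{u}} (f : X ⟶ Y) [LocallyOfFiniteType f]
    (hf : Subtr.UnivSSubtrusive f) (hV : IsAIC V) (g : Spec (CommRingCat.of V) ⟶ Y) :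
    ∃ a : Spec (CommRingCat.of V) ⟶ X, a ≫ f = g := by
  obtain ⟨x, x', hx, h1, h2⟩ := hf _ _ _ (IsPullback.of_hasPullback f g).flip
    (IsLocalRing.specializes_closedPoint (⟨⊥, Ideal.isPrime_bot⟩ : PrimeSpectrum V))
  obtain ⟨W, hW, hxW, -⟩ := exists_isAffineOpen_mem_and_subset (x := x) (U := (⊤ : (pullback f g).Opens)) trivial
  obtain ⟨φ, hφ⟩ := Spec.map_surjective (hW.fromSpec ≫ pullback.snd f g)
  haveI : LocallyOfFiniteType (Spec.map φ) := by rw [hφ]; infer_instance
  have hft : φ.hom.FiniteType := (HasRingHomProperty.Spec_iff (P := @LocallyOfFiniteType)).mp ‹_›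
  letI := φ.hom.toAlgebra
  haveI : Algebra.FiniteType V Γ(pullback f g, W) := hft
  obtain ⟨w, rfl⟩ : x ∈ Set.range hW.fromSpec := by rw [hW.range_fromSpec]; exact hxW
  obtain ⟨w', rfl⟩ := hx.mem_open hW.fromSpec.isOpenEmbedding.isOpen_range ⟨w, rfl⟩
  have hw : ∀ v, Spec.map φ v = pullback.snd f g (hW.fromSpec v) := fun v => by
    rw [hφ, Scheme.Hom.comp_apply]
  have hle := (PrimeSpectrum.le_iff_specializes w' w).mpr (hW.fromSpec.isOpenEmbedding.isInducing.specializes_iff.mp hx)
  haveI := PrimeSpectrum.isPrime w'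
  haveI := PrimeSpectrum.isPrime w
  obtain ⟨σ⟩ := exists_algHom_of_primes hV w'.asIdeal w.asIdeal hle
    (congrArg PrimeSpectrum.asIdeal ((hw w').trans h2)) (congrArg PrimeSpectrum.asIdeal ((hw w).trans h1))
  refine ⟨Spec.map (CommRingCat.ofHom σ.toRingHom) ≫ hW.fromSpec ≫ pullback.fst f g, ?_⟩
  rw [Category.assoc, Category.assoc, pullback.condition, ← Category.assoc hW.fromSpec, ← hφ,
    ← Category.assoc, ← Spec.map_comp]
  convert Category.id_comp g
  rw [← Spec.map_id]
  congr 1
  ext v
  exact σ.commutes v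

/-- Valuation rings are dominated by absolutely integrally closed ones. -/
theorem exists_aic_dominating (V : Type u) [CommRing V] [IsDomain V] [ValuationRing V] :
    ∃ (W : Type u) (_ : CommRing W) (_ : IsDomain W) (_ : ValuationRing W) (φ : V →+* W),
      IsAIC W ∧ IsLocalHom φ ∧ Function.Injective φ := by
  let K := AlgebraicClosure (FractionRing V)
  let j : V →+* K := (algebraMap (FractionRing V) K).comp (algebraMap V (FractionRing V))
  have hj : Function.Injective j := (algebraMap (FractionRing V) K).injective.comp (IsFractionRing.injective V _)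
  let m1 : Ideal j.range := (IsLocalRing.maximalIdeal V).map j.rangeRestrict
  have hm1 : m1 ≠ ⊤ := by
    intro h
    have hb : Function.Bijective j.rangeRestrict :=
      ⟨fun a b e => hj (congrArg Subtype.val e), j.rangeRestrict_surjective⟩
    have := congrArg (Ideal.comap j.rangeRestrict) h
    rw [Ideal.comap_map_of_bijective _ hb, Ideal.comap_top] at this
    exact (IsLocalRing.maximalIdeal.isMaximal V).ne_top this
  obtain ⟨W, hW, hWm⟩ := Ideal.image_subset_nonunits_valuationSubring m1 hm1
  let φ : V →+* W := j.codRestrict W fun a => hW ⟨a, rfl⟩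
  refine ⟨W, inferInstance, inferInstance, inferInstance, φ, ?_, ⟨fun a ha => ?_⟩,
    fun a b e => hj (congrArg Subtype.val e)⟩
  · intro g hg hd
    obtain ⟨x, hx⟩ := IsAlgClosed.exists_root (g.map (algebraMap W K)) (by
      rw [Polynomial.degree_map_eq_of_injective (IsFractionRing.injective W K),
        Polynomial.degree_eq_natDegree hg.ne_zero]
      exact_mod_cast hd.ne')
    rw [Polynomial.IsRoot, Polynomial.eval_map] at hx
    obtain ⟨y, rfl⟩ := IsIntegrallyClosed.algebraMap_eq_of_integral (R := W) (K := K) ⟨g, hg, hx⟩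
    refine ⟨y, (IsFractionRing.injective W K) ?_⟩
    rw [map_zero, ← hx, Polynomial.eval₂_at_apply]
  · by_contra hn
    have h1 : (φ a : K) ∈ (W.nonunits : Set K) :=
      hWm ⟨_, Ideal.mem_map_of_mem _ ((IsLocalRing.mem_maximalIdeal a).mpr hn), rfl⟩
    exact (ValuationSubring.coe_mem_nonunits_iff.mp h1) ha

/-- Testing on absolutely integrally closed valuation rings suffices. -/
theorem univSSubtrusive_of_sections {X Y : Scheme.{u}} (f : X ⟶ Y)
    (h : ∀ (W : Type u) [CommRing W] [IsDomain W] [ValuationRing W], IsAIC W →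
      ∀ g : Spec (CommRingCat.of W) ⟶ Y, ∃ a : Spec (CommRingCat.of W) ⟶ X, a ≫ f = g) :
    Subtr.UnivSSubtrusive f := by
  rw [univSSubtrusive_iff_valLift]
  intro V _ _ _ g
  obtain ⟨W, i1, i2, i3, φ, hW, hloc, hinj⟩ := exists_aic_dominating V
  haveI := hloc
  obtain ⟨L, -, hL⟩ := exists_monotone_lift φ hinj
  obtain ⟨a, ha⟩ := h W hW (Spec.map (CommRingCat.ofHom φ) ≫ g)
  exact ⟨W, i1, i2, i3, a, Spec.map (CommRingCat.ofHom φ), ⟨fun p => ⟨L p, hL p⟩⟩, ha⟩

end Groth.Agent.SubtrLib
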