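import Groth.Agent.JacDesc.Basic

/-! Algebraic points of the generic fibre through a given rational point of the closed fibre. -/

set_option autoImplicit false
set_option linter.style.haveILetI false

universe u

namespace Groth.Agent.SubtrLib

set_option maxRecDepth 4000

open MvPolynomial (aeval)
open Groth.Agent.JacDesc (exists_primitive exists_prime_over_origin)

/-- A rational closed point of the closed fibre, lying on every component of the fibre, is a
specialisation of an algebraic point of the generic fibre. -/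
theorem exists_prime_algebraic_through {V C : Type u} [CommRing V] [IsDomain V] [ValuationRing V]
    [CommRing C] [Algebra V C] [Module.Flat V C] [Algebra.FiniteType V C]
    (q₀ : Ideal C) [q₀.IsPrime] (hmq : (IsLocalRing.maximalIdeal V).map (algebraMap V C) ≤ q₀)
    (hrat : ∀ x, ∃ a : V, x - algebraMap V C a ∈ q₀)
    (hmin : ∀ p : Ideal C, p.IsPrime → (IsLocalRing.maximalIdeal V).map (algebraMap V C) ≤ p →
      ∃ p' : Ideal C, p'.IsPrime ∧ (IsLocalRing.maximalIdeal V).map (algebraMap V C) ≤ p' ∧ p' ≤ p ∧ p' ≤ q₀) :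
    ∃ P : Ideal C, P.IsPrime ∧ P ≤ q₀ ∧ P.comap (algebraMap V C) = ⊥ ∧ Algebra.IsAlgebraic V (C ⧸ P) := by
  have hne : (IsLocalRing.maximalIdeal V).map (algebraMap V C) ≠ ⊤ :=
    fun h => (inferInstance : q₀.IsPrime).ne_top (top_le_iff.mp (h ▸ hmq))
  classical
  let m := IsLocalRing.maximalIdeal V
  let mC : Ideal C := m.map (algebraMap V C)
  letI : Field (V ⧸ m) := Ideal.Quotient.field m
  haveI : Nontrivial (C ⧸ mC) := Ideal.Quotient.nontrivial_iff.mpr hne
  haveI : Algebra.FiniteType V (C ⧸ mC) :=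
    Algebra.FiniteType.of_surjective (Ideal.Quotient.mkₐ V mC) Ideal.Quotient.mk_surjective
  haveI : Algebra.FiniteType (V ⧸ m) (C ⧸ mC) := .of_restrictScalars_finiteType V _ _
  obtain ⟨n, g₀, hg₀inj, hg₀int⟩ := exists_integral_inj_algHom_of_fg (V ⧸ m) (C ⧸ mC)
  choose u hu using fun i => Ideal.Quotient.mk_surjective (I := mC) (g₀ (MvPolynomial.X i))
  choose β hβ using fun i => hrat (u i)
  let b : Fin n → V ⧸ m := fun i => Ideal.Quotient.mk m (β i)
  let e : MvPolynomial (Fin n) (V ⧸ m) ≃ₐ[V ⧸ m] MvPolynomial (Fin n) (V ⧸ m) :=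
    AlgEquiv.ofAlgHom (MvPolynomial.aeval fun i => MvPolynomial.X i - MvPolynomial.C (b i))
      (MvPolynomial.aeval fun i => MvPolynomial.X i + MvPolynomial.C (b i))
      (MvPolynomial.algHom_ext fun i => by simp) (MvPolynomial.algHom_ext fun i => by simp)
  let g : MvPolynomial (Fin n) (V ⧸ m) →ₐ[V ⧸ m] C ⧸ mC := g₀.comp e.toAlgHom
  have hginj : Function.Injective g := hg₀inj.comp e.injective
  have hgint : g.toRingHom.IsIntegral :=
    RingHom.IsIntegral.trans e.toAlgHom.toRingHom g₀.toRingHom (RingHom.isIntegral_of_surjective _ e.surjective) hg₀int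
  choose t ht using fun i => Ideal.Quotient.mk_surjective (I := mC) (g (MvPolynomial.X i))
  let φ : MvPolynomial (Fin n) V →ₐ[V] C := aeval t
  let red : MvPolynomial (Fin n) V →+* MvPolynomial (Fin n) (V ⧸ m) :=
    MvPolynomial.map (Ideal.Quotient.mk m)
  have hsq : g.toRingHom.comp red = (Ideal.Quotient.mk mC).comp φ.toRingHom := by
    refine MvPolynomial.ringHom_ext (fun a => ?_) (fun i => ?_)
    · simp only [RingHom.comp_apply, red, MvPolynomial.map_C, AlgHom.toRingHom_eq_coe, RingHom.coe_coe,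
        φ, MvPolynomial.aeval_C]
      exact (g.commutes _).trans rfl
    · simp [red, φ, ht]
  have hredsurj : Function.Surjective red := MvPolynomial.map_surjective _ Ideal.Quotient.mk_surjective
  letI : Algebra (MvPolynomial (Fin n) (V ⧸ m)) (C ⧸ mC) := g.toRingHom.toAlgebra
  haveI : Algebra.IsIntegral (MvPolynomial (Fin n) (V ⧸ m)) (C ⧸ mC) := ⟨hgint⟩
  obtain ⟨Q0', -, hQ0', hQ0c'⟩ := Ideal.exists_ideal_over_prime_of_isIntegral
    (⊥ : Ideal (MvPolynomial (Fin n) (V ⧸ m))) (⊥ : Ideal (C ⧸ mC))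
    (by rw [← RingHom.ker_eq_comap_bot]; exact ((RingHom.injective_iff_ker_eq_bot _).mp hginj).le)
  obtain ⟨p', hp', hmp', hp'le, hp'q⟩ := hmin (Q0'.comap (Ideal.Quotient.mk mC)) (Ideal.comap_isPrime _ _)
    (fun x hx => by rw [Ideal.mem_comap, Ideal.Quotient.eq_zero_iff_mem.mpr hx]; exact zero_mem _)
  let Q0 : Ideal (C ⧸ mC) := p'.map (Ideal.Quotient.mk mC)
  haveI hQ0 : Q0.IsPrime := Ideal.map_isPrime_of_surjective Ideal.Quotient.mk_surjective (by rw [Ideal.mk_ker]; exact hmp')
  have hQ0c : Q0.comap (algebraMap (MvPolynomial (Fin n) (V ⧸ m)) (C ⧸ mC)) = ⊥ :=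
    le_bot_iff.mp ((Ideal.comap_mono (Ideal.map_le_iff_le_comap.mpr hp'le)).trans hQ0c'.le)
  let Q1 : Ideal (C ⧸ mC) := q₀.map (Ideal.Quotient.mk mC)
  haveI hQ1 : Q1.IsPrime := Ideal.map_isPrime_of_surjective Ideal.Quotient.mk_surjective (by rw [Ideal.mk_ker]; exact hmq)
  have hQ1le : Q0 ≤ Q1 := Ideal.map_mono hp'q
  let p1 := RingHom.ker (MvPolynomial.aeval (R := V ⧸ m) (0 : Fin n → V ⧸ m))
  have hQ1c : Q1.comap (algebraMap (MvPolynomial (Fin n) (V ⧸ m)) (C ⧸ mC)) = p1 := by
    haveI : p1.IsMaximal := RingHom.ker_isMaximal_of_surjective _ fun c => ⟨MvPolynomial.C c, by simp⟩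
    have hX1 : ∀ i, g (MvPolynomial.X i) ∈ Q1 := fun i => by
      have e1 : g (MvPolynomial.X i) = Ideal.Quotient.mk mC (u i - algebraMap V C (β i)) := by
        have e2 : e (MvPolynomial.X i) = MvPolynomial.X i - MvPolynomial.C (b i) := by
          show MvPolynomial.aeval _ (MvPolynomial.X i) = _
          rw [MvPolynomial.aeval_X]
        show g₀ (e (MvPolynomial.X i)) = _
        rw [e2, map_sub, map_sub, hu]
        congr 1
        exact (g₀.commutes _).trans rfl
      rw [e1]
      exact Ideal.mem_map_of_mem _ (hβ i)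
    refine ((‹p1.IsMaximal›).eq_of_le (Ideal.comap_isPrime _ _).ne_top fun F hF => ?_).symm
    have hdec : ∀ F : MvPolynomial (Fin n) (V ⧸ m),
        g F - algebraMap (V ⧸ m) (C ⧸ mC) (MvPolynomial.aeval (0 : Fin n → V ⧸ m) F) ∈ Q1 := by
      intro F
      induction F using MvPolynomial.induction_on with
      | C a =>
        rw [show g (MvPolynomial.C a) = algebraMap (V ⧸ m) (C ⧸ mC) a from g.commutes a]
        simp
      | add a c ha hc => rw [map_add, map_add, map_add, add_sub_add_comm]; exact add_mem ha hc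
      | mul_X a i _ => simpa using Q1.mul_mem_left _ (hX1 i)
    have := hdec F
    rw [show MvPolynomial.aeval (0 : Fin n → V ⧸ m) F = 0 from hF, map_zero, sub_zero] at this
    exact this
  let q0 : Ideal C := Q0.comap (Ideal.Quotient.mk mC)
  let q : Ideal C := Q1.comap (Ideal.Quotient.mk mC)
  have hqm : q.comap (algebraMap V C) = m := by
    refine ((IsLocalRing.maximalIdeal.isMaximal V).eq_of_le ?_ ?_).symm
    · exact (Ideal.comap_isPrime (algebraMap V C) q).ne_top
    · intro a ha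
      have : Ideal.Quotient.mk mC (algebraMap V C a) = 0 :=
        Ideal.Quotient.eq_zero_iff_mem.mpr (Ideal.mem_map_of_mem _ ha)
      simp only [q, Ideal.mem_comap, this, zero_mem]
  have : (⊥ : Ideal C) ≤ q0 := bot_le
  obtain ⟨Q, ⟨⟨hQ, -⟩, hQmin⟩, hQle⟩ := Ideal.exists_minimalPrimes_le this
  haveI := hQ
  have hQbot : Q.comap (algebraMap V C) = ⊥ := by
    by_contra h
    obtain ⟨Q', hlt, hQ', -⟩ := Ideal.exists_ideal_lt_liesOver_of_lt (p := (⊥ : Ideal V))
      (q := Q.comap (algebraMap V C)) Q (lt_of_le_of_ne bot_le (Ne.symm h))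
    exact hlt.not_ge (hQmin ⟨hQ', bot_le⟩ hlt.le)
  have hφQ : ∀ F, φ F ∈ Q → F = 0 := by
    intro F hF
    by_contra hne0
    obtain ⟨c, hc, F', rfl, j, hj⟩ := exists_primitive F hne0
    rw [map_mul] at hF
    have hF' : φ F' ∈ Q := (hQ.mem_or_mem hF).resolve_left fun h => hc (by
      have h0 : algebraMap V C c ∈ Q := by simpa only [φ, MvPolynomial.aeval_C] using h
      have : c ∈ Q.comap (algebraMap V C) := h0
      rw [hQbot] at this
      exact Ideal.mem_bot.mp this)
    have h1 : g (red F') ∈ Q0 := by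
      have := congrFun (congrArg DFunLike.coe hsq) F'
      simp only [RingHom.comp_apply, AlgHom.toRingHom_eq_coe, RingHom.coe_coe] at this
      rw [this]
      exact hQle hF'
    have h2 : red F' ∈ (⊥ : Ideal (MvPolynomial (Fin n) (V ⧸ m))) := by rw [← hQ0c]; exact h1
    have h3 := congrArg (MvPolynomial.coeff j) (Ideal.mem_bot.mp h2)
    rw [MvPolynomial.coeff_map, hj, map_one, MvPolynomial.coeff_zero] at h3
    exact one_ne_zero h3
  let R := MvPolynomial (Fin n) V
  letI algR : Algebra R (C ⧸ Q) := ((Ideal.Quotient.mk Q).comp φ.toRingHom).toAlgebra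
  haveI : IsScalarTower V R (C ⧸ Q) := IsScalarTower.of_algebraMap_eq fun a => by
    rw [RingHom.algebraMap_toAlgebra, RingHom.comp_apply]
    exact congrArg (Ideal.Quotient.mk Q) (φ.commutes a).symm
  haveI : Algebra.FiniteType V (C ⧸ Q) :=
    Algebra.FiniteType.of_surjective (Ideal.Quotient.mkₐ V Q) Ideal.Quotient.mk_surjective
  haveI : Algebra.FiniteType R (C ⧸ Q) := .of_restrictScalars_finiteType V _ _
  have hQq : Q ≤ q := hQle.trans (Ideal.comap_mono hQ1le)
  let q' : Ideal (C ⧸ Q) := q.map (Ideal.Quotient.mk Q)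
  haveI : q'.IsPrime := Ideal.map_isPrime_of_surjective Ideal.Quotient.mk_surjective (by simpa using hQq)
  have hmemq' : ∀ x : C, Ideal.Quotient.mk Q x ∈ q' ↔ x ∈ q := by
    intro x
    rw [← Ideal.mem_comap, Ideal.comap_map_of_surjective _ Ideal.Quotient.mk_surjective,
      ← RingHom.ker_eq_comap_bot, Ideal.mk_ker, sup_eq_left.mpr hQq]
  have hX : ∀ i, algebraMap R (C ⧸ Q) (MvPolynomial.X i) ∈ q' := by
    intro i
    change Ideal.Quotient.mk Q (φ (MvPolynomial.X i)) ∈ q'
    rw [hmemq']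
    simp only [φ, MvPolynomial.aeval_X, q, Ideal.mem_comap, ht]
    change MvPolynomial.X i ∈ Q1.comap (algebraMap (MvPolynomial (Fin n) (V ⧸ m)) (C ⧸ mC))
    rw [hQ1c]
    simp [p1]
  let I := (q'.under R).map (algebraMap R (C ⧸ Q))
  have hmI : ∀ x ∈ mC, Ideal.Quotient.mk Q x ∈ I := by
    intro x hx
    induction hx using Submodule.span_induction with
    | mem y hy =>
      obtain ⟨a, ha, rfl⟩ := hy
      rw [show Ideal.Quotient.mk Q (algebraMap V C a) = algebraMap R (C ⧸ Q) (algebraMap V R a) by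
        rw [← IsScalarTower.algebraMap_apply]; rfl]
      refine Ideal.mem_map_of_mem _ ?_
      change algebraMap R (C ⧸ Q) (algebraMap V R a) ∈ q'
      rw [← IsScalarTower.algebraMap_apply]
      change Ideal.Quotient.mk Q (algebraMap V C a) ∈ q'
      rw [hmemq']
      rw [← hqm] at ha
      exact ha
    | zero => simp
    | add a b _ _ ha hb => rw [map_add]; exact add_mem ha hb
    | smul a b _ hb => rw [smul_eq_mul, map_mul]; exact I.mul_mem_left _ hb
  haveI : Algebra.IsIntegral R ((C ⧸ Q) ⧸ I) := ⟨fun z => by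
    obtain ⟨z, rfl⟩ := Ideal.Quotient.mk_surjective z
    obtain ⟨x, rfl⟩ := Ideal.Quotient.mk_surjective z
    obtain ⟨G, hG, hGx⟩ := hgint (Ideal.Quotient.mk mC x)
    obtain ⟨G', hG'map, -, hG'⟩ := Polynomial.lifts_and_degree_eq_and_monic
      ((Polynomial.lifts_iff_coeff_lifts G).mpr fun i => hredsurj _) hG
    refine ⟨G', hG', ?_⟩
    have hmem : Polynomial.eval₂ φ.toRingHom x G' ∈ mC := by
      rw [← Ideal.Quotient.eq_zero_iff_mem, Polynomial.hom_eval₂, ← hsq, ← Polynomial.eval₂_map,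
        hG'map]
      exact hGx
    rw [← Ideal.Quotient.algebraMap_eq, IsScalarTower.algebraMap_eq R (C ⧸ Q) ((C ⧸ Q) ⧸ I),
      ← Polynomial.hom_eval₂, Ideal.Quotient.algebraMap_eq, Ideal.Quotient.eq_zero_iff_mem,
      RingHom.algebraMap_toAlgebra, ← Polynomial.hom_eval₂]
    exact hmI _ hmem⟩
  haveI : Algebra.FiniteType R ((C ⧸ Q) ⧸ I) :=
    Algebra.FiniteType.of_surjective (Ideal.Quotient.mkₐ R I) Ideal.Quotient.mk_surjective
  haveI : Module.Finite R ((C ⧸ Q) ⧸ I) := Algebra.IsIntegral.finite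
  have hqf : Algebra.WeaklyQuasiFiniteAt R q' := inferInstance
  obtain ⟨P, hP, hPle, hPbot, hPalg⟩ := exists_prime_over_origin (V := V) (n := n) (C := C ⧸ Q)
    (fun a b h => sub_eq_zero.mp (hφQ _ (by
      rw [← Ideal.Quotient.eq_zero_iff_mem, map_sub, map_sub, sub_eq_zero]; exact h)))
    q' hqf hX
  refine ⟨P.comap (Ideal.Quotient.mk Q), inferInstance, fun x hx => ?_, ?_, ?_⟩
  · have h1 : Ideal.Quotient.mk mC x ∈ Q1 := (hmemq' x).mp (hPle hx)
    rwa [← Ideal.mem_comap, Ideal.comap_map_of_surjective _ Ideal.Quotient.mk_surjective,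
      ← RingHom.ker_eq_comap_bot, Ideal.mk_ker, sup_eq_left.mpr hmq] at h1
  · rw [Ideal.comap_comap]; exact hPbot
  · haveI := hPalg
    refine Algebra.IsAlgebraic.of_injective
      (Ideal.quotientMapₐ P (Ideal.Quotient.mkₐ V Q) le_rfl) ?_
    exact Ideal.quotientMap_injective

end Groth.Agent.SubtrLib
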