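import Groth.Agent.SubtrLib.AIC
import Groth.Agent.SubtrLib.RationalThrough
import Groth.Agent.HTopV.Basic

/-!
# Universal openness and sections through rational points of closed fibres
-/

set_option autoImplicit false
set_option linter.style.haveILetI false
universe u

open CategoryTheory CategoryTheory.Limits AlgebraicGeometry

namespace Groth.Agent.SubtrLib

variable {V : Type u} [CommRing V] [IsDomain V] [ValuationRing V]

/-- The closed point of the spectrum, as a morphism. -/
noncomputable abbrev closedPt (V : Type u) [CommRing V] [IsLocalRing V] :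
    Spec (CommRingCat.of (IsLocalRing.ResidueField V)) ⟶ Spec (CommRingCat.of V) :=
  Spec.map (CommRingCat.ofHom (IsLocalRing.residue V))

theorem closedPt_apply (x : Spec (CommRingCat.of (IsLocalRing.ResidueField V))) :
    closedPt V x = IsLocalRing.closedPoint V := by
  refine PrimeSpectrum.ext ?_
  show Ideal.comap (IsLocalRing.residue V) x.asIdeal = IsLocalRing.maximalIdeal V
  have : x.asIdeal = ⊥ := (Ideal.eq_bot_or_top x.asIdeal).resolve_right x.isPrime.ne_top
  rw [this, ← RingHom.ker_eq_comap_bot, IsLocalRing.ker_residue]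

/-- A prime generalises to the generic fibre unless an element outside it is killed by a scalar. -/
theorem exists_prime_generic {C : Type u} [CommRing C] [Algebra V C] (v : Ideal C) [v.IsPrime]
    (h : ∀ r : V, r ≠ 0 → ∀ c ∉ v, algebraMap V C r * c ≠ 0) :
    ∃ Q : Ideal C, Q.IsPrime ∧ Q ≤ v ∧ Q.comap (algebraMap V C) = ⊥ := by
  have hv : (1 : C) ∉ v := (Ideal.ne_top_iff_one _).mp (inferInstance : v.IsPrime).ne_top
  let M : Submonoid C :=
    { carrier := {x | ∃ r : V, r ≠ 0 ∧ ∃ c ∉ v, x = algebraMap V C r * c}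
      one_mem' := ⟨1, one_ne_zero, 1, hv, by simp⟩
      mul_mem' := by
        rintro _ _ ⟨r, hr, c, hc, rfl⟩ ⟨s, hs, d, hd, rfl⟩
        exact ⟨r * s, mul_ne_zero hr hs, c * d, (inferInstance : v.IsPrime).mul_notMem hc hd,
          by rw [map_mul]; ring⟩ }
  obtain ⟨Q, hQ, -, hdisj⟩ := Ideal.exists_le_prime_disjoint (⊥ : Ideal C) M (by
    rw [Set.disjoint_left]
    rintro x hx ⟨r, hr, c, hc, rfl⟩
    exact h r hr c hc (Ideal.mem_bot.mp hx))
  refine ⟨Q, hQ, fun x hx => ?_, le_bot_iff.mp fun r hr => ?_⟩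
  · by_contra hxv
    exact Set.disjoint_left.mp hdisj hx ⟨1, one_ne_zero, x, hxv, by simp⟩
  · by_contra hr0
    exact Set.disjoint_left.mp hdisj hr ⟨r, hr0, 1, hv, (mul_one _).symm⟩

theorem IsAIC.isAlgClosed_residueField (hV : IsAIC V) : IsAlgClosed (IsLocalRing.ResidueField V) := by
  refine IsAlgClosed.of_exists_root _ fun p hp hirr => ?_
  obtain ⟨G, hG, hdeg, hGm⟩ := Polynomial.lifts_and_degree_eq_and_monic
    ((Polynomial.lifts_iff_coeff_lifts p).mpr fun i => IsLocalRing.residue_surjective _) hp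
  obtain ⟨x, hx⟩ := hV G hGm (by rw [Polynomial.natDegree_eq_of_degree_eq hdeg]; exact hirr.natDegree_pos)
  refine ⟨IsLocalRing.residue V x, ?_⟩
  rw [← hG, Polynomial.eval_map, Polynomial.eval₂_at_apply, hx, map_zero]

/-- A rational point of the closed fibre which generalises to the generic fibre lifts to a section. -/
theorem exists_algHom_through (hV : IsAIC V) {C : Type u} [CommRing C] [Algebra V C] [Algebra.FiniteType V C]
    (τ : C →ₐ[V] IsLocalRing.ResidueField V) (q' : Ideal C) [q'.IsPrime] (hle : q' ≤ RingHom.ker τ)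
    (h' : q'.comap (algebraMap V C) = ⊥) :
    ∃ s : C →ₐ[V] V, ∀ x, IsLocalRing.residue V (s x) = τ x := by
  classical
  let D := C ⧸ q'
  haveI : Algebra.FiniteType V D :=
    Algebra.FiniteType.of_surjective (Ideal.Quotient.mkₐ V q') Ideal.Quotient.mk_surjective
  have hinj : Function.Injective (algebraMap V D) := by
    rw [injective_iff_map_eq_zero]
    intro a ha
    exact Ideal.mem_bot.mp (h' ▸ (Ideal.Quotient.eq_zero_iff_mem.mp ha : algebraMap V C a ∈ q'))
  haveI : FaithfulSMul V D := (faithfulSMul_iff_algebraMap_injective _ _).mpr hinj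
  haveI : Module.Flat V D :=
    Module.Flat.flat_iff_torsion_eq_bot_of_isBezout.mpr (Submodule.isTorsionFree_iff_torsion_eq_bot.mp inferInstance)
  let τD : D →ₐ[V] IsLocalRing.ResidueField V := Ideal.Quotient.liftₐ q' τ fun a ha => hle ha
  have hτD : ∀ x, τD (Ideal.Quotient.mk q' x) = τ x := fun x => Ideal.Quotient.lift_mk _ _ _
  let q : Ideal D := RingHom.ker τD
  haveI : q.IsPrime := RingHom.ker_isPrime _
  let mD : Ideal D := (IsLocalRing.maximalIdeal V).map (algebraMap V D)
  have hmq : mD ≤ q := Ideal.map_le_iff_le_comap.mpr fun a ha => by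
    show τD (algebraMap V D a) = 0
    rw [AlgHom.commutes]
    exact (IsLocalRing.residue_eq_zero_iff a).mpr ha
  -- only finitely many components of the closed fibre
  have hfin : mD.minimalPrimes.Finite := by
    haveI : Algebra.FiniteType V (D ⧸ mD) :=
      Algebra.FiniteType.of_surjective (Ideal.Quotient.mkₐ V mD) Ideal.Quotient.mk_surjective
    haveI : Algebra.FiniteType (V ⧸ IsLocalRing.maximalIdeal V) (D ⧸ mD) := .of_restrictScalars_finiteType V _ _
    letI : Field (V ⧸ IsLocalRing.maximalIdeal V) := Ideal.Quotient.field _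
    haveI : IsNoetherianRing (D ⧸ mD) := Algebra.FiniteType.isNoetherianRing (V ⧸ IsLocalRing.maximalIdeal V) _
    rw [Ideal.minimalPrimes_eq_comap]
    exact (minimalPrimes.finite_of_isNoetherianRing (D ⧸ mD)).image _
  obtain ⟨h, hq, hbad⟩ : ∃ h ∉ q, ∀ p ∈ mD.minimalPrimes, ¬ p ≤ q → h ∈ p := by
    have hch : ∀ p : Ideal D, ∃ x, ¬ p ≤ q → (x ∈ p ∧ x ∉ q) := fun p => by
      by_cases hp : p ≤ q
      · exact ⟨0, fun h => absurd hp h⟩
      · obtain ⟨x, hx1, hx2⟩ := SetLike.not_le_iff_exists.mp hp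
        exact ⟨x, fun _ => ⟨hx1, hx2⟩⟩
    choose x hx using hch
    refine ⟨∏ p ∈ hfin.toFinset.filter (fun p => ¬ p ≤ q), x p, fun hm => ?_, fun p hp hpq => ?_⟩
    · obtain ⟨p, hp, hxp⟩ := (Ideal.IsPrime.prod_mem_iff).mp hm
      exact (hx p (Finset.mem_filter.mp hp).2).2 hxp
    · exact Ideal.mem_of_dvd _
        (Finset.dvd_prod_of_mem x (Finset.mem_filter.mpr ⟨hfin.mem_toFinset.mpr hp, hpq⟩)) (hx p hpq).1
  let Dh := Localization.Away h
  haveI : IsScalarTower V D Dh := inferInstance
  haveI : Algebra.FiniteType V Dh :=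
    Algebra.FiniteType.trans (inferInstance : Algebra.FiniteType V D)
      (IsLocalization.finiteType_of_monoid_fg (Submonoid.powers h) Dh)
  haveI : Module.Flat D Dh := IsLocalization.flat Dh (Submonoid.powers h)
  haveI : Module.Flat V Dh := Module.Flat.trans V D Dh
  have hu : IsUnit (τD h) := isUnit_iff_ne_zero.mpr hq
  let τh : Dh →+* IsLocalRing.ResidueField V := IsLocalization.Away.lift (g := τD.toRingHom) h hu
  have hτh : ∀ x, τh (algebraMap D Dh x) = τD x := fun x => IsLocalization.Away.lift_eq h hu x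
  have hτhV : ∀ a : V, τh (algebraMap V Dh a) = IsLocalRing.residue V a := fun a => by
    rw [IsScalarTower.algebraMap_apply V D Dh, hτh, AlgHom.commutes]
    rfl
  let qh : Ideal Dh := RingHom.ker τh
  haveI : qh.IsPrime := RingHom.ker_isPrime _
  obtain ⟨P, hP, hPq, hP0, halg⟩ := exists_prime_algebraic_through (V := V) qh
    (Ideal.map_le_iff_le_comap.mpr fun a ha => by
      show τh (algebraMap V Dh a) = 0
      rw [hτhV]
      exact (IsLocalRing.residue_eq_zero_iff a).mpr ha)
    (fun x => by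
      obtain ⟨a, ha⟩ := IsLocalRing.residue_surjective (τh x)
      refine ⟨a, ?_⟩
      show τh (x - algebraMap V Dh a) = 0
      rw [map_sub, hτhV, ha, sub_self])
    (fun p hp hmp => by
      have hp0 : mD ≤ p.comap (algebraMap D Dh) := by
        refine Ideal.map_le_iff_le_comap.mpr fun a ha => ?_
        show algebraMap D Dh (algebraMap V D a) ∈ p
        rw [← IsScalarTower.algebraMap_apply]
        exact hmp (Ideal.mem_map_of_mem _ ha)
      haveI : (p.comap (algebraMap D Dh)).IsPrime := Ideal.comap_isPrime _ _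
      obtain ⟨p₀, hp₀, hp₀le⟩ := Ideal.exists_minimalPrimes_le hp0
      haveI := hp₀.1.1
      have hhp : h ∉ p₀ := fun hh => hp.ne_top (p.eq_top_of_isUnit_mem (hp₀le hh)
        (IsLocalization.Away.algebraMap_isUnit h))
      have hp₀q : p₀ ≤ q := by
        by_contra hc
        exact hhp (hbad p₀ hp₀ hc)
      have hdisj : Disjoint (Submonoid.powers h : Set D) (p₀ : Set D) := by
        rw [Set.disjoint_left]
        rintro _ ⟨k, rfl⟩ hk
        exact hhp (hp₀.1.1.mem_of_pow_mem k hk)
      refine ⟨p₀.map (algebraMap D Dh),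
        IsLocalization.isPrime_of_isPrime_disjoint (Submonoid.powers h) Dh p₀ hp₀.1.1 hdisj, ?_, ?_, ?_⟩
      · rw [show (algebraMap V Dh) = (algebraMap D Dh).comp (algebraMap V D) from IsScalarTower.algebraMap_eq V D Dh,
          ← Ideal.map_map]
        exact Ideal.map_mono hp₀.1.2
      · exact Ideal.map_le_iff_le_comap.mpr hp₀le
      · refine Ideal.map_le_iff_le_comap.mpr fun x hx => ?_
        show τh (algebraMap D Dh x) = 0
        rw [hτh]
        exact hp₀q hx)
  haveI := hP
  have hinjP : Function.Injective (algebraMap V (Dh ⧸ P)) := by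
    rw [injective_iff_map_eq_zero]
    intro a ha
    exact Ideal.mem_bot.mp (hP0 ▸ (Ideal.Quotient.eq_zero_iff_mem.mp ha : algebraMap V Dh a ∈ P))
  have hneP : (IsLocalRing.maximalIdeal V).map (algebraMap V (Dh ⧸ P)) ≠ ⊤ := by
    intro htop
    have hp : (qh.map (Ideal.Quotient.mk P)).IsPrime :=
      Ideal.map_isPrime_of_surjective Ideal.Quotient.mk_surjective (by simpa using hPq)
    refine hp.ne_top (top_le_iff.mp (htop ▸ Ideal.map_le_iff_le_comap.mpr fun a ha => ?_))
    show Ideal.Quotient.mk P (algebraMap V Dh a) ∈ qh.map (Ideal.Quotient.mk P)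
    refine Ideal.mem_map_of_mem _ (show τh _ = 0 from ?_)
    rw [hτhV]
    exact (IsLocalRing.residue_eq_zero_iff a).mpr ha
  let e := AlgEquiv.ofBijective (Algebra.ofId V (Dh ⧸ P)) (bijective_of_isAlgebraic hV hinjP hneP)
  refine ⟨e.symm.toAlgHom.comp ((Ideal.Quotient.mkₐ V P).comp
    ((IsScalarTower.toAlgHom V D Dh).comp (Ideal.Quotient.mkₐ V q'))), fun x => ?_⟩
  set a := e.symm (Ideal.Quotient.mk P (algebraMap D Dh (Ideal.Quotient.mk q' x))) with ha
  have h1 : algebraMap D Dh (Ideal.Quotient.mk q' x) - algebraMap V Dh a ∈ P := by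
    rw [← Ideal.Quotient.eq_zero_iff_mem, map_sub, sub_eq_zero]
    exact (e.apply_symm_apply _).symm
  have h2 : τh (algebraMap D Dh (Ideal.Quotient.mk q' x) - algebraMap V Dh a) = 0 := hPq h1
  rw [map_sub, hτh, hτhV, hτD, sub_eq_zero] at h2
  exact h2.symm

/-- A morphism locally of finite presentation is universally open as soon as rational points of closed
fibres over absolutely integrally closed valuation rings lift to sections. -/
theorem universallyOpen_of_sections {X Y : Scheme.{u}} (f : X ⟶ Y) [LocallyOfFinitePresentation f]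
    (h : ∀ (W : Type u) [CommRing W] [IsDomain W] [ValuationRing W], IsAIC W →
      ∀ (g : Spec (CommRingCat.of W) ⟶ Y) (z : Spec (CommRingCat.of (IsLocalRing.ResidueField W)) ⟶ X),
        z ≫ f = closedPt W ≫ g → ∃ s : Spec (CommRingCat.of W) ⟶ X, s ≫ f = g ∧ closedPt W ≫ s = z) :
    UniversallyOpen f := by
  refine ⟨fun X' Y' p o f' hP => ?_⟩
  haveI : LocallyOfFinitePresentation f' :=
    MorphismProperty.of_isPullback (P := @LocallyOfFinitePresentation) hP.flip inferInstance
  refine AlgebraicGeometry.isOpenMap_of_generalizingMap f' fun x y' hy => ?_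
  obtain ⟨V, i2, i3, g, hg0, hg1⟩ := HTopV.exists_spec_valuationRing (show y' ⤳ f' x from hy)
  obtain ⟨W, j1, j2, j3, φ, hW, hloc, hinj⟩ := exists_aic_dominating V
  haveI := hloc
  let gW : Spec (CommRingCat.of W) ⟶ Y' := Spec.map (CommRingCat.ofHom φ) ≫ g
  have hgW0 : gW (⟨⊥, Ideal.isPrime_bot⟩ : PrimeSpectrum W) = y' := by
    refine (Scheme.Hom.comp_apply _ _ _).trans ((congrArg g.base ?_).trans hg0)
    refine PrimeSpectrum.ext ?_
    show Ideal.comap φ ⊥ = ⊥
    rw [← RingHom.ker_eq_comap_bot]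
    exact (RingHom.injective_iff_ker_eq_bot φ).mp hinj
  have hgW1 : gW (IsLocalRing.closedPoint W) = f' x := by
    refine (Scheme.Hom.comp_apply _ _ _).trans ((congrArg g.base ?_).trans hg1)
    exact IsLocalRing.comap_closedPoint φ
  obtain ⟨w, hw1, hw2⟩ := Scheme.Pullback.exists_preimage_pullback (f := f') (g := gW) x
    (IsLocalRing.closedPoint W) hgW1.symm
  suffices ∃ w', w' ⤳ w ∧ pullback.snd f' gW w' = (⟨⊥, Ideal.isPrime_bot⟩ : PrimeSpectrum W) by
    obtain ⟨w', hww, hw'⟩ := this
    refine ⟨pullback.fst f' gW w', ?_, ?_⟩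
    · have := hww.map (pullback.fst f' gW).continuous
      rwa [hw1] at this
    · rw [← Scheme.Hom.comp_apply, pullback.condition, Scheme.Hom.comp_apply, hw']
      exact hgW0
  -- an affine chart around `w`
  obtain ⟨M, hM, hwM, -⟩ := exists_isAffineOpen_mem_and_subset (x := w) (U := (⊤ : (pullback f' gW).Opens)) trivial
  obtain ⟨ψ, hψ⟩ := Spec.map_surjective (hM.fromSpec ≫ pullback.snd f' gW)
  haveI : LocallyOfFiniteType (Spec.map ψ) := by rw [hψ]; infer_instance
  have hft : ψ.hom.FiniteType := (HasRingHomProperty.Spec_iff (P := @LocallyOfFiniteType)).mp ‹_›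
  letI := ψ.hom.toAlgebra
  haveI : Algebra.FiniteType W Γ(pullback f' gW, M) := hft
  obtain ⟨v, rfl⟩ : w ∈ Set.range hM.fromSpec := by rw [hM.range_fromSpec]; exact hwM
  haveI := PrimeSpectrum.isPrime v
  have hv : v.asIdeal.comap (algebraMap W Γ(pullback f' gW, M)) = IsLocalRing.maximalIdeal W := by
    have e : Spec.map ψ v = IsLocalRing.closedPoint W := by
      rw [hψ, Scheme.Hom.comp_apply]; exact hw2
    exact congrArg PrimeSpectrum.asIdeal e
  by_contra hno
  -- no generisation: an element `c` outside `v` killed by a nonzero scalar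
  obtain ⟨r, hr, c, hc, hrc⟩ : ∃ r : W, r ≠ 0 ∧ ∃ c ∉ v.asIdeal, algebraMap W Γ(pullback f' gW, M) r * c = 0 := by
    by_contra hh
    push Not at hh
    obtain ⟨Q, hQ, hQv, hQ0⟩ := exists_prime_generic (V := W) v.asIdeal hh
    refine hno ⟨hM.fromSpec ⟨Q, hQ⟩,
      ((PrimeSpectrum.le_iff_specializes ⟨Q, hQ⟩ v).mp hQv).map hM.fromSpec.continuous, ?_⟩
    exact (congrArg (fun m : Spec Γ(pullback f' gW, M) ⟶ Spec (CommRingCat.of W) => m ⟨Q, hQ⟩) hψ).symm.trans
      (PrimeSpectrum.ext hQ0)
  let Cc := Γ(pullback f' gW, M)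
  let mC : Ideal Cc := (IsLocalRing.maximalIdeal W).map (algebraMap W Cc)
  haveI : Algebra.FiniteType W (Cc ⧸ mC) :=
    Algebra.FiniteType.of_surjective (Ideal.Quotient.mkₐ W mC) Ideal.Quotient.mk_surjective
  haveI := hW.isAlgClosed_residueField
  let ι : IsLocalRing.ResidueField W →+* Cc ⧸ mC :=
    Ideal.Quotient.lift _ (algebraMap W (Cc ⧸ mC)) fun a ha => by
      rw [IsScalarTower.algebraMap_apply W Cc (Cc ⧸ mC)]
      exact Ideal.Quotient.eq_zero_iff_mem.mpr (Ideal.mem_map_of_mem _ ha)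
  letI := ι.toAlgebra
  haveI : IsScalarTower W (IsLocalRing.ResidueField W) (Cc ⧸ mC) := IsScalarTower.of_algebraMap_eq fun a => rfl
  haveI : Algebra.FiniteType (IsLocalRing.ResidueField W) (Cc ⧸ mC) := .of_restrictScalars_finiteType W _ _
  haveI : IsJacobsonRing (Cc ⧸ mC) := isJacobsonRing_of_finiteType (A := IsLocalRing.ResidueField W)
  have hmv : mC ≤ v.asIdeal := Ideal.map_le_iff_le_comap.mpr hv.ge
  obtain ⟨N, hN, hcN⟩ : ∃ N : Ideal (Cc ⧸ mC), N.IsMaximal ∧ Ideal.Quotient.mk mC c ∉ N := by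
    by_contra! hall
    exact hc (by
      have hp : (v.asIdeal.map (Ideal.Quotient.mk mC)).IsPrime :=
        Ideal.map_isPrime_of_surjective Ideal.Quotient.mk_surjective (by rw [Ideal.mk_ker]; exact hmv)
      have h2 : (v.asIdeal.map (Ideal.Quotient.mk mC)).jacobson = v.asIdeal.map (Ideal.Quotient.mk mC) :=
        isJacobsonRing_iff_prime_eq.mp ‹_› _ hp
      have h3 : Ideal.Quotient.mk mC c ∈ v.asIdeal.map (Ideal.Quotient.mk mC) := by
        rw [← h2]
        exact Ideal.mem_sInf.mpr fun {N} hN => hall N hN.2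
      rwa [← Ideal.mem_comap, Ideal.comap_map_of_surjective _ Ideal.Quotient.mk_surjective,
        ← RingHom.ker_eq_comap_bot, Ideal.mk_ker, sup_eq_left.mpr hmv] at h3)
  haveI := hN
  letI : Field ((Cc ⧸ mC) ⧸ N) := Ideal.Quotient.field N
  haveI : Algebra.FiniteType (IsLocalRing.ResidueField W) ((Cc ⧸ mC) ⧸ N) :=
    Algebra.FiniteType.of_surjective (Ideal.Quotient.mkₐ _ N) Ideal.Quotient.mk_surjective
  haveI : Module.Finite (IsLocalRing.ResidueField W) ((Cc ⧸ mC) ⧸ N) :=
    finite_of_finite_type_of_isJacobsonRing _ _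
  let eN : IsLocalRing.ResidueField W ≃+* ((Cc ⧸ mC) ⧸ N) := RingEquiv.ofBijective
    (algebraMap (IsLocalRing.ResidueField W) ((Cc ⧸ mC) ⧸ N))
    ⟨(algebraMap (IsLocalRing.ResidueField W) ((Cc ⧸ mC) ⧸ N)).injective,
      (IsAlgClosed.algebraMap_bijective_of_isIntegral (k := IsLocalRing.ResidueField W)).2⟩
  let τ : Cc →+* IsLocalRing.ResidueField W :=
    eN.symm.toRingHom.comp ((Ideal.Quotient.mk N).comp (Ideal.Quotient.mk mC))
  have hτc : τ c ≠ 0 := fun h0 => hcN (Ideal.Quotient.eq_zero_iff_mem.mp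
    ((EquivLike.toEquiv eN.symm).injective (h0.trans (map_zero eN.symm).symm)))
  have hτW : ∀ a : W, τ (algebraMap W Cc a) = IsLocalRing.residue W a := fun a => by
    refine eN.injective ?_
    show eN (eN.symm _) = _
    rw [eN.apply_symm_apply]
    rfl
  let zW : Spec (CommRingCat.of (IsLocalRing.ResidueField W)) ⟶ pullback f' gW :=
    Spec.map (CommRingCat.ofHom τ) ≫ hM.fromSpec
  have hzsnd : zW ≫ pullback.snd f' gW = closedPt W := by
    rw [Category.assoc, ← hψ, ← Spec.map_comp]
    congr 1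
    exact CommRingCat.hom_ext (RingHom.ext hτW)
  have hbig : IsPullback (pullback.fst f' gW ≫ p) (pullback.snd f' gW) f (gW ≫ o) :=
    (IsPullback.of_hasPullback f' gW).paste_horiz hP.flip
  obtain ⟨s, hs1, hs2⟩ := h W hW (gW ≫ o) (zW ≫ pullback.fst f' gW ≫ p) (by
    rw [Category.assoc, hbig.w, ← Category.assoc, hzsnd])
  let sW := hbig.lift s (𝟙 _) (by rw [Category.id_comp]; exact hs1)
  have hsW : closedPt W ≫ sW = zW := hbig.hom_ext
    (by rw [Category.assoc, hbig.lift_fst]; exact hs2)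
    (by rw [Category.assoc, hbig.lift_snd, Category.comp_id, hzsnd])
  have hmem : sW (IsLocalRing.closedPoint W) ∈ M := by
    obtain ⟨pt⟩ : Nonempty (Spec (CommRingCat.of (IsLocalRing.ResidueField W))) := inferInstance
    rw [← closedPt_apply pt, ← Scheme.Hom.comp_apply, hsW, Scheme.Hom.comp_apply, ← SetLike.mem_coe,
      ← hM.range_fromSpec]
    exact ⟨_, rfl⟩
  obtain ⟨l, hl⟩ := HTopV.exists_fac_of_closedPoint_mem sW hM.fromSpec (by rw [hM.range_fromSpec]; exact hmem)
  obtain ⟨σ, rfl⟩ := Spec.map_surjective l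
  have hσW : ∀ a : W, σ.hom (algebraMap W Cc a) = a := fun a => by
    have e : ψ ≫ σ = 𝟙 _ := Spec.map_injective (by
      rw [Spec.map_comp, Spec.map_id, hψ, ← Category.assoc, hl, hbig.lift_snd])
    exact RingHom.congr_fun (congrArg CommRingCat.Hom.hom e) a
  have hσc : IsLocalRing.residue W (σ.hom c) = τ c := by
    have e : σ ≫ CommRingCat.ofHom (IsLocalRing.residue W) = CommRingCat.ofHom τ := Spec.map_injective (by
      rw [← cancel_mono hM.fromSpec, Spec.map_comp, Category.assoc, hl]
      exact hsW)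
    exact RingHom.congr_fun (congrArg CommRingCat.Hom.hom e) c
  have h0 := congrArg σ.hom hrc
  rw [map_mul, hσW, map_zero] at h0
  rw [(mul_eq_zero.mp h0).resolve_left hr, map_zero] at hσc
  exact hτc hσc.symm

/-- Sections through rational points of the closed fibre, for universally open morphisms. -/
theorem exists_section_through {X Y : Scheme.{u}} (f : X ⟶ Y) [LocallyOfFiniteType f] [UniversallyOpen f]
    (hV : IsAIC V) (g : Spec (CommRingCat.of V) ⟶ Y)
    (z : Spec (CommRingCat.of (IsLocalRing.ResidueField V)) ⟶ X) (hz : z ≫ f = closedPt V ≫ g) :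
    ∃ s : Spec (CommRingCat.of V) ⟶ X, s ≫ f = g ∧ closedPt V ≫ s = z := by
  let zV : Spec (CommRingCat.of (IsLocalRing.ResidueField V)) ⟶ pullback f g := pullback.lift z (closedPt V) hz
  obtain ⟨pt⟩ : Nonempty (Spec (CommRingCat.of (IsLocalRing.ResidueField V))) := inferInstance
  have hw : pullback.snd f g (zV pt) = IsLocalRing.closedPoint V := by
    rw [← Scheme.Hom.comp_apply, pullback.lift_snd, closedPt_apply]
  obtain ⟨M, hM, hwM, -⟩ := exists_isAffineOpen_mem_and_subset (x := zV pt)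
    (U := (⊤ : (pullback f g).Opens)) trivial
  obtain ⟨ψ, hψ⟩ := Spec.map_surjective (hM.fromSpec ≫ pullback.snd f g)
  haveI : LocallyOfFiniteType (Spec.map ψ) := by rw [hψ]; infer_instance
  have hft : ψ.hom.FiniteType := (HasRingHomProperty.Spec_iff (P := @LocallyOfFiniteType)).mp ‹_›
  letI := ψ.hom.toAlgebra
  haveI : Algebra.FiniteType V Γ(pullback f g, M) := hft
  have hr : Set.range zV ⊆ Set.range hM.fromSpec := by
    rintro _ ⟨q, rfl⟩
    rw [hM.range_fromSpec, Subsingleton.elim q pt]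
    exact hwM
  obtain ⟨τ, hτ⟩ := Spec.map_surjective (IsOpenImmersion.lift hM.fromSpec zV hr)
  have hτ' : Spec.map τ ≫ hM.fromSpec = zV := by rw [hτ, IsOpenImmersion.lift_fac]
  have hτV : ∀ a : V, τ.hom (algebraMap V Γ(pullback f g, M) a) = algebraMap V (IsLocalRing.ResidueField V) a :=
    fun a => by
      have e : ψ ≫ τ = CommRingCat.ofHom (IsLocalRing.residue V) := Spec.map_injective (by
        rw [Spec.map_comp, hψ, ← Category.assoc, hτ', pullback.lift_snd])
      exact RingHom.congr_fun (congrArg CommRingCat.Hom.hom e) a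
  haveI : (RingHom.ker τ.hom).IsPrime := RingHom.ker_isPrime _
  obtain ⟨Q, hQ, hle, hQ0⟩ := exists_prime_generic (V := V) (RingHom.ker τ.hom) (fun r hr c hc h0 => by
    haveI : UniversallyOpen (Spec.map ψ) := by rw [hψ]; infer_instance
    let x : Spec Γ(pullback f g, M) := ⟨RingHom.ker τ.hom, inferInstance⟩
    have hx : Spec.map ψ x = IsLocalRing.closedPoint V := by
      refine PrimeSpectrum.ext (Ideal.ext fun a => ?_)
      show τ.hom (algebraMap V Γ(pullback f g, M) a) = 0 ↔ a ∈ IsLocalRing.maximalIdeal V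
      rw [hτV]
      exact IsLocalRing.residue_eq_zero_iff a
    have hop := (Spec.map ψ).isOpenMap _ (PrimeSpectrum.basicOpen c).2
    obtain ⟨y, hy, hy'⟩ := (IsLocalRing.specializes_closedPoint (⟨⊥, Ideal.isPrime_bot⟩ : PrimeSpectrum V)).mem_open hop
      ⟨x, hc, hx⟩
    refine hy ?_
    refine ((PrimeSpectrum.isPrime y).mem_or_mem (by rw [h0]; exact zero_mem _)).resolve_left fun hm => hr ?_
    have hm' : r ∈ (Spec.map ψ y).asIdeal := hm
    rw [hy'] at hm'
    exact Ideal.mem_bot.mp hm')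
  haveI := hQ
  obtain ⟨s, hs⟩ := exists_algHom_through hV
    ({ τ.hom with commutes' := hτV } : Γ(pullback f g, M) →ₐ[V] IsLocalRing.ResidueField V) Q hle hQ0
  refine ⟨Spec.map (CommRingCat.ofHom s.toRingHom) ≫ hM.fromSpec ≫ pullback.fst f g, ?_, ?_⟩
  · rw [Category.assoc, Category.assoc, pullback.condition, ← Category.assoc hM.fromSpec, ← hψ,
      ← Category.assoc, ← Spec.map_comp]
    convert Category.id_comp g
    rw [← Spec.map_id]
    congr 1
    ext a
    exact s.commutes a
  · rw [← Category.assoc, ← Spec.map_comp, ← pullback.lift_fst z (closedPt V) hz, ← Category.assoc]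
    congr 1
    show _ = zV
    rw [← hτ']
    congr 2
    exact CommRingCat.hom_ext (RingHom.ext hs)

end Groth.Agent.SubtrLib
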