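import Groth.Agent.SubtrLib.Ultra
import Groth.Agent.LimDesc.Tower
import Groth.Agent.HTopV.Basic

/-!
# Ultraproducts of test points on the stages of a limit

Given a valuation ring point on every stage of a tower, a suitable ultraproduct of them gives a point of
the limit.
-/

set_option autoImplicit false
set_option linter.style.haveILetI false
universe u

open CategoryTheory CategoryTheory.Limits AlgebraicGeometry Filter
open Groth.Agent.LimDesc

namespace Groth.Agent.SubtrLib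

variable {I : Type u} [SmallCategory I] [IsCofiltered I] (D : I ⥤ Scheme.{u}) (c : Cone D) (hc : IsLimit c)
  [∀ (i j : I) (a : i ⟶ j), IsAffineHom (D.map a)] {i₀ : I} {Y₀ : Scheme.{u}} (g₀ : Y₀ ⟶ D.obj i₀)
  {Y : Scheme.{u}} {qY : Y ⟶ Y₀} {g : Y ⟶ c.pt}

theorem exists_ringHom_of_closedPoint_mem {Z : Scheme.{u}} {W : Type u} [CommRing W] [IsLocalRing W]
    (t : Spec (CommRingCat.of W) ⟶ Z) {O : Z.Opens} (hO : IsAffineOpen O) (h : t (IsLocalRing.closedPoint W) ∈ O) :
    ∃ φ : Γ(Z, O) →+* W, Spec.map (CommRingCat.ofHom φ) ≫ hO.fromSpec = t := by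
  obtain ⟨l, hl⟩ := HTopV.exists_fac_of_closedPoint_mem t hO.fromSpec (by rw [hO.range_fromSpec]; exact h)
  obtain ⟨φ, rfl⟩ := Spec.map_surjective l
  exact ⟨φ.hom, hl⟩

include hc in
theorem exists_ultra_point [CompactSpace Y₀] (hY : IsPullback qY g g₀ (c.π.app i₀))
    (W : Over i₀ → Type u) [∀ j, CommRing (W j)] [∀ j, IsDomain (W j)] [∀ j, ValuationRing (W j)]
    (h : ∀ j, Spec (CommRingCat.of (W j)) ⟶ stage D g₀ j) :
    ∃ (α : Type u) (U : Ultrafilter α) (k : α → Over i₀) (O : Y₀.Opens) (hO : IsAffineOpen O)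
      (ρ : ∀ a, Γ(Y₀, O) →+* W (k a)),
      (∀ a, Spec.map (CommRingCat.ofHom (ρ a)) ≫ hO.fromSpec = h (k a) ≫ toBase D g₀ (k a)) ∧
      ∃ g' : Spec (CommRingCat.of (UProd U fun a => W (k a))) ⟶ Y,
        g' ≫ qY = Spec.map (CommRingCat.ofHom ((germ U fun a => W (k a)).comp (Pi.ringHom ρ))) ≫ hO.fromSpec := by
  classical
  haveI : ∀ {i j : I} (f : i ⟶ j), IsAffineHom (D.map f) := fun f => inferInstance
  let Mor := Σ' (a b : Over i₀), a ⟶ b
  let top : Over i₀ := Over.mk (𝟙 i₀)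
  let objs : Finset Mor → Finset (Over i₀) := fun s =>
    insert top (s.image (fun m => m.1) ∪ s.image (fun m => m.2.1))
  have hl : ∀ {s : Finset Mor} {m : Mor}, m ∈ s → m.1 ∈ objs s := fun hm =>
    Finset.mem_insert_of_mem (Finset.mem_union_left _ (Finset.mem_image_of_mem _ hm))
  have hr : ∀ {s : Finset Mor} {m : Mor}, m ∈ s → m.2.1 ∈ objs s := fun hm =>
    Finset.mem_insert_of_mem (Finset.mem_union_right _ (Finset.mem_image_of_mem _ hm))
  have hinf := fun s : Finset Mor => IsCofiltered.inf_exists (objs s)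
    (s.attach.image fun m => ⟨m.1.1, m.1.2.1, hl m.2, hr m.2, m.1.2.2⟩)
  choose S T hT using hinf
  have hT' : ∀ (s : Finset Mor) {a b : Over i₀} (m : a ⟶ b) (hm : (⟨a, b, m⟩ : Mor) ∈ s),
      T s (hl hm) ≫ m = T s (hr hm) := fun s a b m hm =>
    hT s _ _ (Finset.mem_image.mpr ⟨⟨_, hm⟩, Finset.mem_attach _ _, rfl⟩)
  choose A hA hmem _ using fun y : Y₀ =>
    exists_isAffineOpen_mem_and_subset (x := y) (U := (⊤ : Y₀.Opens)) trivial
  obtain ⟨t, ht⟩ := isCompact_univ.elim_finite_subcover (fun y : Y₀ => (A y : Set Y₀)) (fun y => (A y).2)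
    (fun y _ => Set.mem_iUnion.mpr ⟨y, hmem y⟩)
  let pt : Finset Mor → Y₀ := fun s => toBase D g₀ (S s) (h (S s) (IsLocalRing.closedPoint (W (S s))))
  let U₀ : Ultrafilter (Finset Mor) := Ultrafilter.of atTop
  obtain ⟨y, -, hy⟩ := (Ultrafilter.finite_biUnion_mem_iff (f := U₀) (s := fun y => {s | pt s ∈ A y})
    t.finite_toSet).mp (Filter.univ_mem' fun s => by
      simpa [Set.mem_iUnion] using ht (Set.mem_univ (pt s)))
  let α := {s : Finset Mor // pt s ∈ A y}
  have hlarge : Set.range (Subtype.val : α → Finset Mor) ∈ U₀ := by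
    rw [Subtype.range_coe_subtype]; exact hy
  let U : Ultrafilter α := U₀.comap Subtype.val_injective hlarge
  have hev : ∀ s₀ : Finset Mor, ∀ᶠ a : α in (U : Filter α), s₀ ⊆ a.1 := fun s₀ => by
    have h1 : ∀ᶠ s in (U₀ : Filter (Finset Mor)), s₀ ⊆ s :=
      Ultrafilter.of_le atTop (Filter.eventually_ge_atTop s₀)
    exact Filter.Eventually.comap h1 Subtype.val
  let k : α → Over i₀ := fun a => S a.1
  choose ρ hρ using fun a : α =>
    exists_ringHom_of_closedPoint_mem (h (k a) ≫ toBase D g₀ (k a)) (hA y)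
      (show (h (k a) ≫ toBase D g₀ (k a)) (IsLocalRing.closedPoint (W (k a))) ∈ A y by
        exact a.2)
  refine ⟨α, U, k, A y, hA y, ρ, hρ, ?_⟩
  let O : ∀ j : Over i₀, (stage D g₀ j).Opens := fun j => toBase D g₀ j ⁻¹ᵁ A y
  haveI : ∀ j, IsAffineHom (toBase D g₀ j) := isAffineHom_toBase D g₀
  have hO : ∀ j, IsAffineOpen (O j) := fun j => (hA y).preimage _
  have hφ : ∀ (j : Over i₀) (a : α) (hj : j ∈ objs a.1), ∃ φ : Γ(stage D g₀ j, O j) →+* W (k a),
      Spec.map (CommRingCat.ofHom φ) ≫ (hO j).fromSpec = h (k a) ≫ trans D g₀ (T a.1 hj) := fun j a hj => by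
    refine exists_ringHom_of_closedPoint_mem _ (hO j) ?_
    have e : (h (k a) ≫ trans D g₀ (T a.1 hj)) ≫ toBase D g₀ j = h (k a) ≫ toBase D g₀ (k a) := by
      rw [Category.assoc, trans_toBase]
    exact Set.mem_of_eq_of_mem (s := (A y : Set Y₀))
      (congrArg (fun m : Spec (CommRingCat.of (W (k a))) ⟶ Y₀ => m (IsLocalRing.closedPoint (W (k a)))) e) a.2
  choose φ hφ using hφ
  have hobj : ∀ j, ∀ᶠ a : α in (U : Filter α), j ∈ objs a.1 := fun j =>
    (hev {⟨j, j, 𝟙 j⟩}).mono fun a ha => hl (m := ⟨j, j, 𝟙 j⟩) (ha (Finset.mem_singleton_self _))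
  let V : α → Type u := fun a => W (k a)
  let Φ : ∀ j, Γ(stage D g₀ j, O j) →+* UProd U V := fun j => germHom (hobj j) (φ j)
  have hΦ : ∀ {j l : Over i₀} (m : j ⟶ l) (e : O j ≤ trans D g₀ m ⁻¹ᵁ O l),
      (Φ j).comp ((trans D g₀ m).appLE (O l) (O j) e).hom = Φ l := by
    intro j l m e
    ext r
    show germHom (hobj j) (φ j) _ = germHom (hobj l) (φ l) r
    rw [germHom_eq_germ (hobj l) (φ l) (x := fun a => if hs : l ∈ objs a.1 then φ l a hs r else 0)
      (Eventually.of_forall fun a hs => by rw [dif_pos hs])]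
    refine germHom_eq_germ _ _ ?_
    filter_upwards [hev {⟨j, l, m⟩}] with a ha hs
    have hm : (⟨j, l, m⟩ : Mor) ∈ a.1 := ha (Finset.mem_singleton_self _)
    rw [dif_pos (hr hm)]
    have key : CommRingCat.ofHom (φ l a (hr hm)) =
        (trans D g₀ m).appLE (O l) (O j) e ≫ CommRingCat.ofHom (φ j a hs) := by
      apply Spec.map_injective
      rw [← cancel_mono (hO l).fromSpec, Spec.map_comp, Category.assoc,
        IsAffineOpen.SpecMap_appLE_fromSpec _ (hO l) (hO j) e, ← Category.assoc, hφ, hφ, Category.assoc,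
        ← show (tower D g₀).map (T a.1 hs ≫ m) = trans D g₀ (T a.1 hs) ≫ trans D g₀ m from
          (tower D g₀).map_comp _ _]
      show h (k a) ≫ trans D g₀ (T a.1 (hr hm)) = h (k a) ≫ trans D g₀ (T a.1 hs ≫ m)
      rw [show T a.1 hs ≫ m = T a.1 (hr hm) from hT' a.1 m hm]
    exact (RingHom.congr_fun (congrArg CommRingCat.Hom.hom key) r).symm
  let s : Cone (tower D g₀) :=
    { pt := Spec (CommRingCat.of (UProd U V))
      π :=
      { app := fun j => Spec.map (CommRingCat.ofHom (Φ j)) ≫ (hO j).fromSpec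
        naturality := fun j l m => by
          have e : O j ≤ trans D g₀ m ⁻¹ᵁ O l := by
            show toBase D g₀ j ⁻¹ᵁ A y ≤ trans D g₀ m ⁻¹ᵁ toBase D g₀ l ⁻¹ᵁ A y
            rw [← Scheme.Hom.comp_preimage, trans_toBase]
          refine (Category.id_comp _).trans ?_
          show Spec.map (CommRingCat.ofHom (Φ l)) ≫ (hO l).fromSpec =
            (Spec.map (CommRingCat.ofHom (Φ j)) ≫ (hO j).fromSpec) ≫ trans D g₀ m
          refine Eq.trans ?_ (Category.assoc _ _ _).symm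
          rw [← IsAffineOpen.SpecMap_appLE_fromSpec _ (hO l) (hO j) e, ← Category.assoc, ← Spec.map_comp]
          congr 2
          exact CommRingCat.hom_ext (hΦ m e).symm } }
  let g' : Spec (CommRingCat.of (UProd U V)) ⟶ Y := (isLimitTowerCone D g₀ c hY hc).lift s
  refine ⟨g', ?_⟩
  have hfac : g' ≫ proj D g₀ c hY top = Spec.map (CommRingCat.ofHom (Φ top)) ≫ (hO top).fromSpec :=
    (isLimitTowerCone D g₀ c hY hc).fac s top
  rw [← proj_toBase D g₀ c hY top, ← Category.assoc, hfac, Category.assoc,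
    ← IsAffineOpen.SpecMap_appLE_fromSpec (toBase D g₀ top) (hA y) (hO top) le_rfl, ← Category.assoc,
    ← Spec.map_comp]
  congr 2
  refine CommRingCat.hom_ext (RingHom.ext fun r => ?_)
  refine germHom_eq_germ (hobj top) (φ top) (Eventually.of_forall fun a hs => ?_)
  have key : CommRingCat.ofHom (ρ a) =
      (toBase D g₀ top).appLE (A y) (O top) le_rfl ≫ CommRingCat.ofHom (φ top a hs) := by
    apply Spec.map_injective
    rw [← cancel_mono (hA y).fromSpec, Spec.map_comp, Category.assoc,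
      IsAffineOpen.SpecMap_appLE_fromSpec _ (hA y) (hO top) le_rfl, ← Category.assoc, hφ, hρ, Category.assoc,
      trans_toBase]
  exact (RingHom.congr_fun (congrArg CommRingCat.Hom.hom key) r).symm

end Groth.Agent.SubtrLib
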