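import Groth.Agent.EtaPt.Core
import Groth.Agent.ValLib.FieldPoint
import Groth.Prelude.Def_W4c2submetdescSubtr
import Mathlib.RingTheory.Valuation.ValuationRing
import Mathlib.RingTheory.Valuation.LocalSubring

/-!
# Valuation rings through finite chains of primes
-/

set_option autoImplicit false
universe u
open CategoryTheory CategoryTheory.Limits AlgebraicGeometry

namespace Groth.Agent.SubtrLib

variable {A : Type u} [CommRing A]

/-- A chain of primes starting at the kernel lifts to a chain of primes of a valuation subring. -/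
theorem exists_valuation_chain : ∀ (n : ℕ) {K : Type u} [Field K] (φ : A →+* K)
    (q : Fin (n + 1) → PrimeSpectrum A), (∀ i j, i ≤ j → q i ≤ q j) →
    RingHom.ker φ = (q 0).asIdeal →
    ∃ (V : ValuationSubring K) (g : A →+* V) (P : Fin (n + 1) → PrimeSpectrum V),
      V.subtype.comp g = φ ∧ (P 0).asIdeal = ⊥ ∧ (∀ i j, i ≤ j → P i ≤ P j) ∧
      ∀ i, (P i).asIdeal.comap g = (q i).asIdeal := by
  intro n
  induction n with
  | zero =>
    intro K _ φ q _ hker
    refine ⟨⊤, φ.codRestrict (⊤ : ValuationSubring K).toSubring (fun _ => trivial),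
      fun _ => ⟨⊥, Ideal.isPrime_bot⟩, rfl, rfl, fun _ _ _ => le_rfl, fun i => ?_⟩
    obtain rfl : i = 0 := Fin.ext (by omega)
    rw [← hker]
    ext a
    show (φ.codRestrict _ _ a : (⊤ : ValuationSubring K)) ∈ (⊥ : Ideal _) ↔ φ a = 0
    rw [Ideal.mem_bot]
    exact ⟨fun h => congrArg Subtype.val h, fun h => Subtype.ext h⟩
  | succ n ih =>
    intro K _ φ q hq hker
    obtain ⟨V₁, g₁, hg₁, hk₁⟩ := EtaPtLib.exists_valuation φ (q 1).asIdeal
      (hker.trans_le (hq 0 1 (Fin.zero_le _)))
    obtain ⟨V', g', P', hg', hP0, hPm, hPq⟩ := ih ((IsLocalRing.residue V₁).comp g₁) (fun i => q i.succ)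
      (fun i j h => hq _ _ (Fin.succ_le_succ_iff.mpr h)) hk₁
    let V : ValuationSubring K :=
      { (V'.toSubring.comap (IsLocalRing.residue V₁)).map V₁.subtype with
        mem_or_inv_mem' := by
          intro x
          rcases V₁.mem_or_inv_mem x with hx | hx
          · by_cases h0 : IsLocalRing.residue V₁ ⟨x, hx⟩ = 0
            · exact Or.inl ⟨⟨x, hx⟩, by simp [h0], rfl⟩
            · obtain ⟨u, hu⟩ : IsUnit (⟨x, hx⟩ : V₁) :=
                not_not.mp fun h => h0 ((IsLocalRing.residue_eq_zero_iff _).mpr h)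
              rcases V'.mem_or_inv_mem (IsLocalRing.residue V₁ u) with h | h
              · exact Or.inl ⟨u, h, congrArg Subtype.val hu⟩
              · refine Or.inr ⟨((u⁻¹ : V₁ˣ) : V₁), ?_, ?_⟩
                · rwa [← map_units_inv] at h
                · rw [map_units_inv V₁.subtype u, hu]; rfl
          · by_cases hx0 : x ∈ V₁
            · rcases em (IsLocalRing.residue V₁ ⟨x, hx0⟩ = 0) with h0 | h0
              · exact Or.inl ⟨⟨x, hx0⟩, by simp [h0], rfl⟩
              · obtain ⟨u, hu⟩ : IsUnit (⟨x, hx0⟩ : V₁) :=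
                  not_not.mp fun h => h0 ((IsLocalRing.residue_eq_zero_iff _).mpr h)
                rcases V'.mem_or_inv_mem (IsLocalRing.residue V₁ u) with h | h
                · exact Or.inl ⟨u, h, congrArg Subtype.val hu⟩
                · refine Or.inr ⟨((u⁻¹ : V₁ˣ) : V₁), ?_, ?_⟩
                  · rwa [← map_units_inv] at h
                  · rw [map_units_inv V₁.subtype u, hu]; rfl
            · refine Or.inr ⟨⟨x⁻¹, hx⟩, ?_, rfl⟩
              have : IsLocalRing.residue V₁ ⟨x⁻¹, hx⟩ = 0 := by
                rw [IsLocalRing.residue_eq_zero_iff]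
                intro hu
                obtain ⟨u, hu⟩ := hu
                refine hx0 ?_
                have h2 : ((u⁻¹ : V₁ˣ) : V₁).1 = x := by
                  have : V₁.subtype ((u⁻¹ : V₁ˣ) : V₁) = x := by
                    rw [map_units_inv V₁.subtype u, hu]; exact inv_inv x
                  exact this
                exact h2 ▸ ((u⁻¹ : V₁ˣ) : V₁).2
              simp [this] }
    have hV₁ : ∀ x ∈ V, x ∈ V₁ := by rintro _ ⟨y, -, rfl⟩; exact y.2
    let i₁ : V →+* V₁ := V.subtype.codRestrict V₁.toSubring (fun x => hV₁ x x.2)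
    let r : V →+* V' := ((IsLocalRing.residue V₁).comp i₁).codRestrict V'.toSubring (by
      rintro ⟨_, y, hy, rfl⟩; exact hy)
    have hφ : ∀ a, φ a ∈ V := fun a =>
      ⟨g₁ a, by
        show IsLocalRing.residue V₁ (g₁ a) ∈ V'
        have := RingHom.congr_fun hg' a
        exact this ▸ (g' a).2, RingHom.congr_fun hg₁ a⟩
    let g : A →+* V := φ.codRestrict V.toSubring hφ
    have hrg : ∀ a, r (g a) = g' a := fun a => Subtype.ext <| by
      show IsLocalRing.residue V₁ (i₁ (g a)) = (g' a : IsLocalRing.ResidueField V₁)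
      rw [show i₁ (g a) = g₁ a from Subtype.ext (RingHom.congr_fun hg₁ a).symm]
      exact (RingHom.congr_fun hg' a).symm
    refine ⟨V, g, Fin.cons ⟨⊥, Ideal.isPrime_bot⟩ (fun i => PrimeSpectrum.comap r (P' i)), rfl, rfl, ?_, ?_⟩
    · intro i j hij
      induction i using Fin.cases with
      | zero => exact bot_le (α := Ideal V)
      | succ i =>
        induction j using Fin.cases with
        | zero => exact absurd hij (by simp)
        | succ j =>
          simp only [Fin.cons_succ]
          exact Ideal.comap_mono (hPm i j (Fin.succ_le_succ_iff.mp hij))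
    · intro i
      induction i using Fin.cases with
      | zero =>
        rw [Fin.cons_zero, ← hker]
        ext a
        show g a ∈ (⊥ : Ideal V) ↔ φ a = 0
        rw [Ideal.mem_bot]
        exact ⟨fun h => congrArg Subtype.val h, fun h => Subtype.ext h⟩
      | succ i =>
        rw [Fin.cons_succ, ← hPq]
        ext a
        show r (g a) ∈ (P' i).asIdeal ↔ g' a ∈ (P' i).asIdeal
        rw [hrg]

/-- A finite chain of specializations comes from a valuation ring. -/
theorem exists_chain_map {Y : Scheme.{u}} (n : ℕ) (y : Fin (n + 1) → Y)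
    (hy : ∀ i j : Fin (n + 1), i ≤ j → y i ⤳ y j) :
    ∃ (V : Type u) (_ : CommRing V) (_ : IsDomain V) (_ : ValuationRing V)
      (g : Spec (CommRingCat.of V) ⟶ Y) (P : Fin (n + 1) → PrimeSpectrum V),
      (∀ i j, i ≤ j → P i ≤ P j) ∧ ∀ i, g (P i) = y i := by
  let a := y (Fin.last n)
  have hmem : ∀ i, y i ∈ Set.range (Y.fromSpecStalk a) := by
    intro i
    rw [Scheme.range_fromSpecStalk]
    exact hy i _ (Fin.le_last i)
  choose q hq using hmem
  let q' : Fin (n + 1) → PrimeSpectrum (Y.presheaf.stalk a) := fun i => q i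
  have hqm : ∀ i j, i ≤ j → q' i ≤ q' j := fun i j h => by
    refine (PrimeSpectrum.le_iff_specializes _ _).mpr
      ((Y.fromSpecStalk a).isEmbedding.isInducing.specializes_iff.mp ?_)
    exact (hq i).symm ▸ (hq j).symm ▸ hy i j h
  obtain ⟨V, g, P, -, -, hPm, hPq⟩ := exists_valuation_chain n
    (algebraMap (Y.presheaf.stalk a) (q' 0).asIdeal.ResidueField) q' hqm (Ideal.ker_algebraMap_residueField _)
  refine ⟨V, inferInstance, inferInstance, inferInstance, Spec.map (CommRingCat.ofHom g) ≫ Y.fromSpecStalk a,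
    P, hPm, fun i => ?_⟩
  rw [Scheme.Hom.comp_apply,
    show Spec.map (CommRingCat.ofHom g) (P i) = q i from PrimeSpectrum.ext (hPq i), hq]

variable {V W : Type u} [CommRing V] [IsDomain V] [ValuationRing V] [CommRing W] [IsDomain W]
  [ValuationRing W]

/-- Along a local injection of valuation rings primes lift monotonically. -/
theorem exists_monotone_lift (h : V →+* W) [IsLocalHom h] (hinj : Function.Injective h) :
    ∃ L : PrimeSpectrum V → PrimeSpectrum W, Monotone L ∧ ∀ p, PrimeSpectrum.comap h (L p) = p := by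
  have hc : ∀ p : PrimeSpectrum V, (p.asIdeal.map h).comap h = p.asIdeal := by
    intro p
    refine le_antisymm (fun x hx => ?_) Ideal.le_comap_map
    by_contra hxp
    -- every element of `p` is a multiple of `x` by an element of `p`
    have hdiv : ∀ a ∈ p.asIdeal, ∃ c ∈ p.asIdeal, a = x * c := by
      intro a ha
      rcases ValuationRing.dvd_total x a with ⟨c, hc⟩ | ⟨c, hc⟩
      · exact ⟨c, (p.isPrime.mem_or_mem (hc ▸ ha)).resolve_left hxp, hc⟩
      · exact absurd (hc ▸ p.asIdeal.mul_mem_right c ha) hxp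
    have hle : p.asIdeal.map h ≤ Ideal.span {h x} * IsLocalRing.maximalIdeal W := by
      rw [Ideal.map_le_iff_le_comap]
      intro a ha
      obtain ⟨c, hc, rfl⟩ := hdiv a ha
      rw [Ideal.mem_comap, map_mul]
      refine Ideal.mul_mem_mul (Ideal.mem_span_singleton_self _) ?_
      exact fun hu => p.isPrime.ne_top (Ideal.eq_top_of_isUnit_mem _ hc (IsLocalHom.map_nonunit c hu))
    have h1 := hle hx
    rw [Ideal.mem_span_singleton_mul] at h1
    obtain ⟨w, hw, hw'⟩ := h1
    have hx0 : h x ≠ 0 := fun h0 => hxp (by rw [(injective_iff_map_eq_zero h).mp hinj x h0]; exact zero_mem _)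
    have : w = 1 := mul_left_cancel₀ hx0 (hw'.trans (mul_one _).symm)
    exact hw (this ▸ isUnit_one)
  have hprime : ∀ p : PrimeSpectrum V, (p.asIdeal.map h).radical.IsPrime := by
    intro p
    constructor
    · intro htop
      rw [Ideal.radical_eq_top] at htop
      exact p.isPrime.ne_top ((hc p).symm.trans (htop ▸ rfl))
    · intro a b ⟨m, hab⟩
      rcases ValuationRing.dvd_total a b with ⟨c, rfl⟩ | ⟨c, rfl⟩
      · refine Or.inr ⟨2 * m, ?_⟩
        have : (a * c) ^ (2 * m) = (a * (a * c)) ^ m * c ^ m := by ring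
        rw [this]; exact Ideal.mul_mem_right _ _ hab
      · refine Or.inl ⟨2 * m, ?_⟩
        have : (b * c) ^ (2 * m) = (b * c * b) ^ m * c ^ m := by ring
        rw [this]; exact Ideal.mul_mem_right _ _ hab
  refine ⟨fun p => ⟨_, hprime p⟩, fun p p' hp => Ideal.radical_mono (Ideal.map_mono hp), fun p => ?_⟩
  refine PrimeSpectrum.ext ?_
  show (p.asIdeal.map h).radical.comap h = p.asIdeal
  rw [Ideal.comap_radical, hc]
  exact p.isPrime.isRadical.radical

/-- A morphism over `Spec V` from a valuation ring hitting both ends. -/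
theorem exists_chain_lift {X : Scheme.{u}} (f : X ⟶ Spec (CommRingCat.of V)) {x x' : X} (hs : x' ⤳ x)
    (hx : f x = IsLocalRing.closedPoint V) (hx' : f x' = (⟨⊥, Ideal.isPrime_bot⟩ : PrimeSpectrum V)) :
    ∃ (W : Type u) (_ : CommRing W) (_ : IsDomain W) (_ : ValuationRing W)
      (c : Spec (CommRingCat.of W) ⟶ X) (L : PrimeSpectrum V → PrimeSpectrum W),
      Monotone L ∧ ∀ p, f (c (L p)) = p := by
  let m := X.fromSpecResidueField x'
  have hm : m (IsLocalRing.closedPoint (X.residueField x')) = x' := X.fromSpecResidueField_apply x' _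
  obtain ⟨B, c, hc, hcm⟩ := ValLib.exists_valuation_of_specializes m (w := x)
    (show (m (IsLocalRing.closedPoint (X.residueField x'))) ⤳ x from hm.symm ▸ hs)
  obtain ⟨ρ, hρ⟩ := Spec.map_surjective (c ≫ f)
  have h1 : Spec.map ρ (IsLocalRing.closedPoint B) = IsLocalRing.closedPoint V := by
    rw [hρ, Scheme.Hom.comp_apply, hc, hx]
  haveI : IsLocalHom ρ.hom := by
    constructor
    intro a ha
    by_contra hna
    have h2 : a ∈ (IsLocalRing.closedPoint V).asIdeal := (IsLocalRing.mem_maximalIdeal a).2 hna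
    rw [← h1] at h2
    exact (IsLocalRing.mem_maximalIdeal _).1 h2 ha
  have hbot : c (⟨⊥, Ideal.isPrime_bot⟩ : PrimeSpectrum B) = x' := by
    let K := (IsLocalRing.ResidueField (X.presheaf.stalk x'))
    have h3 : (Spec.map (CommRingCat.ofHom (algebraMap B (IsLocalRing.ResidueField (X.presheaf.stalk x')))) ≫ c) (IsLocalRing.closedPoint (IsLocalRing.ResidueField (X.presheaf.stalk x'))) = x' :=
      (congrArg (fun k : Spec (CommRingCat.of (IsLocalRing.ResidueField (X.presheaf.stalk x'))) ⟶ X => k (IsLocalRing.closedPoint (IsLocalRing.ResidueField (X.presheaf.stalk x')))) hcm).trans hm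
    refine Eq.trans (congrArg (fun t => c t) (PrimeSpectrum.ext ?_)) h3
    show ⊥ = (IsLocalRing.maximalIdeal (IsLocalRing.ResidueField (X.presheaf.stalk x'))).comap (algebraMap B (IsLocalRing.ResidueField (X.presheaf.stalk x')))
    rw [IsLocalRing.maximalIdeal_eq_bot]
    exact (Ideal.comap_bot_of_injective _ Subtype.val_injective).symm
  have hinj : Function.Injective ρ.hom := by
    have h2 : Spec.map ρ (⟨⊥, Ideal.isPrime_bot⟩ : PrimeSpectrum B) = (⟨⊥, Ideal.isPrime_bot⟩ : PrimeSpectrum V) := by
      rw [hρ, Scheme.Hom.comp_apply, hbot, hx']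
    rw [RingHom.injective_iff_ker_eq_bot]
    exact congrArg PrimeSpectrum.asIdeal h2
  obtain ⟨L, hLm, hL⟩ := exists_monotone_lift ρ.hom hinj
  refine ⟨B, inferInstance, inferInstance, inferInstance, c, L, hLm, fun p => ?_⟩
  rw [← Scheme.Hom.comp_apply, ← hρ]
  exact hL p

end Groth.Agent.SubtrLib
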