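import Groth.Agent.S14765
import Groth.Agent.S14768
import Groth.Agent.SubtrLib.Chain
import Groth.Agent.HTopV.Subtrusive

/-! Valuative criteria for universal S-subtrusiveness. -/

set_option autoImplicit false
universe u
open CategoryTheory CategoryTheory.Limits AlgebraicGeometry

namespace Groth.Agent.SubtrLib

/-- The criterion with arbitrary valuation rings. -/
theorem univSSubtrusive_iff_valLift {X Y : Scheme.{u}} (f : X ⟶ Y) :
    Subtr.UnivSSubtrusive f ↔
      ∀ (V : Type u) [CommRing V] [IsDomain V] [ValuationRing V] (g : Spec (CommRingCat.of V) ⟶ Y),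
        ∃ (V' : Type u) (_ : CommRing V') (_ : IsDomain V') (_ : ValuationRing V')
          (a : Spec (CommRingCat.of V') ⟶ X) (b : Spec (CommRingCat.of V') ⟶ Spec (CommRingCat.of V)),
          Surjective b ∧ a ≫ f = b ≫ g := by
  rw [Groth.Agent.S14768.result]
  refine forall_congr' fun V => forall_congr' fun _ => forall_congr' fun _ => forall_congr' fun _ =>
    forall_congr' fun g => ?_
  refine Iff.trans (List.TFAE.out (Groth.Agent.S14765.result V (pullback.snd f g)) 1 4 rfl rfl) ?_
  constructor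
  · rintro ⟨W, i1, i2, i3, c, hc⟩
    exact ⟨W, i1, i2, i3, c ≫ pullback.fst f g, c ≫ pullback.snd f g, hc,
      by rw [Category.assoc, Category.assoc, pullback.condition]⟩
  · rintro ⟨W, i1, i2, i3, a, b, hb, hab⟩
    exact ⟨W, i1, i2, i3, pullback.lift a b hab, by rw [pullback.lift_snd]; exact hb⟩

theorem univSSubtrusive_of_hasValLift {X S : Scheme.{u}} (f : X ⟶ S)
    (h : HTop.HasValLift (PreZeroHypercover.singleton.{u} f)) : Subtr.UnivSSubtrusive f := by
  rw [univSSubtrusive_iff_valLift]
  intro V _ _ _ g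
  obtain ⟨W, i2, i3, φ, ⟨hinj, hloc⟩, j, g', hg⟩ := h (CommRingCat.of V) g
  haveI : IsLocalHom φ.hom := hloc
  obtain ⟨L, -, hL⟩ := exists_monotone_lift φ.hom hinj
  exact ⟨W, inferInstance, i2, i3, g', Spec.map φ, ⟨fun p => ⟨L p, hL p⟩⟩, hg⟩

theorem dvrLift_of_univSSubtrusive {X S : Scheme.{u}} (f : X ⟶ S) (h : Subtr.UnivSSubtrusive f) :
    HTopV.DVRLift f := by
  intro R _ _ _ g
  obtain ⟨x, x', hx, h1, h2⟩ := h _ _ (pullback.fst g f) (IsPullback.of_hasPullback g f)
    (IsLocalRing.specializes_closedPoint (⟨⊥, Ideal.isPrime_bot⟩ : PrimeSpectrum R))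
  exact ⟨x', x, hx, h2, h1⟩

/-- Lifts of the two points of a discrete valuation ring along a surjective map specialise. -/
theorem specializes_of_surjective {R W : Type u} [CommRing R] [IsDomain R] [IsDiscreteValuationRing R]
    [CommRing W] [IsDomain W] [ValuationRing W]
    (b : Spec (CommRingCat.of W) ⟶ Spec (CommRingCat.of R)) [Surjective b] :
    ∃ u' u : Spec (CommRingCat.of W), u' ⤳ u ∧ b u' = (⟨⊥, Ideal.isPrime_bot⟩ : PrimeSpectrum R) ∧
      b u = IsLocalRing.closedPoint R := by
  obtain ⟨u', h'⟩ := b.surjective (⟨⊥, Ideal.isPrime_bot⟩ : PrimeSpectrum R)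
  obtain ⟨u, h⟩ := b.surjective (IsLocalRing.closedPoint R)
  refine ⟨u', u, ?_, h', h⟩
  rcases (ValuationRing.iff_ideal_total.mp ‹ValuationRing W›).total u'.asIdeal u.asIdeal with hle | hle
  · exact (PrimeSpectrum.le_iff_specializes u' u).mp hle
  · exfalso
    have hs := ((PrimeSpectrum.le_iff_specializes u u').mp hle).map b.continuous
    rw [h, h'] at hs
    have hb : (IsLocalRing.closedPoint R).asIdeal ≤ ⊥ :=
      (PrimeSpectrum.le_iff_specializes (IsLocalRing.closedPoint R)
        (⟨⊥, Ideal.isPrime_bot⟩ : PrimeSpectrum R)).mpr hs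
    exact IsDiscreteValuationRing.not_a_field R (le_bot_iff.mp hb)

/-- Lifting by discrete valuation rings gives lifting of specialisations. -/
theorem dvrLift_of_dvr {X S : Scheme.{u}} (f : X ⟶ S)
    (h : ∀ (D : Type u) [CommRing D] [IsDomain D] [IsDiscreteValuationRing D] (g : Spec (CommRingCat.of D) ⟶ S),
      ∃ (D' : Type u) (_ : CommRing D') (_ : IsDomain D') (_ : IsDiscreteValuationRing D')
        (a : Spec (CommRingCat.of D') ⟶ X) (b : Spec (CommRingCat.of D') ⟶ Spec (CommRingCat.of D)),
        Surjective b ∧ a ≫ f = b ≫ g) : HTopV.DVRLift f := by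
  intro R _ _ _ g
  obtain ⟨D', _, _, _, a, b, hb, hab⟩ := h R g
  obtain ⟨u', u, hu, h', h⟩ := specializes_of_surjective b
  let m : Spec (CommRingCat.of D') ⟶ pullback g f := pullback.lift b a hab.symm
  exact ⟨m u', m u, hu.map m.continuous, by rw [← Scheme.Hom.comp_apply, pullback.lift_fst, h'],
    by rw [← Scheme.Hom.comp_apply, pullback.lift_fst, h]⟩

/-- For locally of finite type morphisms the lifting can be realised by discrete valuation rings. -/
theorem dvr_of_dvrLift {X S : Scheme.{u}} (f : X ⟶ S) [LocallyOfFiniteType f] (hf : HTopV.DVRLift f)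
    (D : Type u) [CommRing D] [IsDomain D] [IsDiscreteValuationRing D] (g : Spec (CommRingCat.of D) ⟶ S) :
    ∃ (D' : Type u) (_ : CommRing D') (_ : IsDomain D') (_ : IsDiscreteValuationRing D')
      (a : Spec (CommRingCat.of D') ⟶ X) (b : Spec (CommRingCat.of D') ⟶ Spec (CommRingCat.of D)),
      Surjective b ∧ a ≫ f = b ≫ g := by
  obtain ⟨w', w, hw, h', h⟩ := hf D g
  haveI : IsNoetherianRing (CommRingCat.of D) := inferInstanceAs (IsNoetherianRing D)
  haveI : IsLocallyNoetherian (Spec (CommRingCat.of D)) := inferInstance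
  haveI : IsLocallyNoetherian (pullback g f) := LocallyOfFiniteType.isLocallyNoetherian (pullback.fst g f)
  have hne : w ≠ w' := by
    rintro rfl
    rw [h] at h'
    exact IsDiscreteValuationRing.not_a_field D (congrArg PrimeSpectrum.asIdeal h')
  obtain ⟨A, t, hA, ht, hgen⟩ := DvrDom.exists_dvr_through (𝟙 _) w' w hw hne
  haveI := hA
  have ht' : t ⟨⊥, Ideal.isPrime_bot⟩ = w' := by
    have h1 := congrArg (fun m => m.base (IsLocalRing.closedPoint ((pullback g f).residueField w'))) hgen
    refine Eq.trans ?_ (h1.trans ((pullback g f).fromSpecResidueField_apply w' _))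
    refine congrArg t.base (PrimeSpectrum.ext (Ideal.ext fun a => ?_))
    show a ∈ (⊥ : Ideal A) ↔ A.subtype a ∈ IsLocalRing.maximalIdeal ((pullback g f).residueField w')
    rw [IsLocalRing.mem_maximalIdeal, mem_nonunits_iff, isUnit_iff_ne_zero, not_not, Ideal.mem_bot]
    exact (map_eq_zero_iff _ Subtype.val_injective).symm
  refine ⟨A, inferInstance, inferInstance, hA, t ≫ pullback.snd g f, t ≫ pullback.fst g f, ⟨fun p => ?_⟩,
    by rw [Category.assoc, Category.assoc, pullback.condition]⟩
  by_cases hp : (PrimeSpectrum.asIdeal (R := D) p) = ⊥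
  · refine ⟨(⟨⊥, Ideal.isPrime_bot⟩ : PrimeSpectrum A), ?_⟩
    refine (Scheme.Hom.comp_apply t (pullback.fst g f) _).trans ((congrArg (pullback.fst g f).base ht').trans (h'.trans ?_))
    exact PrimeSpectrum.ext hp.symm
  · refine ⟨IsLocalRing.closedPoint A, ?_⟩
    refine (Scheme.Hom.comp_apply t (pullback.fst g f) _).trans ((congrArg (pullback.fst g f).base ht).trans (h.trans ?_))
    exact PrimeSpectrum.ext (IsLocalRing.eq_maximalIdeal ((PrimeSpectrum.isPrime p).isMaximal hp)).symm

/-- Over a locally Noetherian base, universally submersive quasi-compact morphisms are subtrusive. -/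
theorem univSSubtrusive_of_univSubmersive {X S : Scheme.{u}} [IsLocallyNoetherian S] (f : X ⟶ S)
    [QuasiCompact f] (h : SGA1.UnivSubmersive f) : Subtr.UnivSSubtrusive f :=
  univSSubtrusive_of_hasValLift f (HTopV.hasValLift_of_dvrLift f (HTopV.dvrLift_of_univSubmersive f h))

theorem univSubmersive_of_univSSubtrusive {X S : Scheme.{u}} [IsLocallyNoetherian S] (f : X ⟶ S)
    [QuasiCompact f] (h : Subtr.UnivSSubtrusive f) : SGA1.UnivSubmersive f :=
  HTopV.univSubmersive_of_dvrLift f (dvrLift_of_univSSubtrusive f h)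

end Groth.Agent.SubtrLib
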