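import Groth.Agent.SubtrLib.Ultra

/-!
# Closed points of ultraproducts

Residues in an ultraproduct of valuation rings, and descent of points with prescribed residues.
-/

set_option autoImplicit false
universe u

open Filter

namespace Groth.Agent.SubtrLib

variable {α : Type u} {U : Ultrafilter α} {V : α → Type u} [∀ a, CommRing (V a)] [∀ a, IsDomain (V a)]
  [∀ a, ValuationRing (V a)]

theorem residue_germ_eq {x y : ∀ a, V a} :
    IsLocalRing.residue (UProd U V) (germ U V x) = IsLocalRing.residue (UProd U V) (germ U V y) ↔
      ∀ᶠ a in (U : Filter α), IsLocalRing.residue (V a) (x a) = IsLocalRing.residue (V a) (y a) := by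
  rw [← sub_eq_zero, ← map_sub, ← map_sub, IsLocalRing.residue_eq_zero_iff, germ_mem_maximalIdeal]
  refine eventually_congr (Eventually.of_forall fun a => ?_)
  rw [Pi.sub_apply, ← IsLocalRing.residue_eq_zero_iff, map_sub, sub_eq_zero]

/-- Maps to almost all residue fields give a map to the residue field of the ultraproduct. -/
theorem exists_resHom {B : Type u} [CommRing B] {S : α → Prop} (hS : ∀ᶠ a in (U : Filter α), S a)
    (τ : ∀ a, S a → (B →+* IsLocalRing.ResidueField (V a))) :
    ∃ T : B →+* IsLocalRing.ResidueField (UProd U V), ∀ (b : B) (x : ∀ a, V a),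
      (∀ᶠ a in (U : Filter α), ∀ hs : S a, IsLocalRing.residue (V a) (x a) = τ a hs b) →
        T b = IsLocalRing.residue (UProd U V) (germ U V x) := by
  classical
  let l : B → ∀ a, V a := fun b a =>
    if hs : S a then (IsLocalRing.residue_surjective (τ a hs b)).choose else 0
  have hl : ∀ b a (hs : S a), IsLocalRing.residue (V a) (l b a) = τ a hs b := fun b a hs => by
    simp only [l, dif_pos hs]
    exact (IsLocalRing.residue_surjective (τ a hs b)).choose_spec
  have key : ∀ (b : B) (x : ∀ a, V a),
      (∀ᶠ a in (U : Filter α), ∀ hs : S a, IsLocalRing.residue (V a) (x a) = τ a hs b) →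
        IsLocalRing.residue (UProd U V) (germ U V (l b)) = IsLocalRing.residue (UProd U V) (germ U V x) :=
    fun b x hx => residue_germ_eq.mpr (by
      filter_upwards [hS, hx] with a ha hb
      rw [hl b a ha, hb ha])
  refine ⟨{ toFun := fun b => IsLocalRing.residue _ (germ U V (l b))
            map_one' := ?_
            map_mul' := fun b c => ?_
            map_zero' := ?_
            map_add' := fun b c => ?_ }, key⟩
  · rw [key 1 1 (Eventually.of_forall fun a hs => by simp), map_one, map_one]
  · rw [key _ (l b * l c) (Eventually.of_forall fun a hs => by simp [hl _ a hs]), map_mul, map_mul]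
  · rw [key 0 0 (Eventually.of_forall fun a hs => by simp), map_zero, map_zero]
  · rw [key _ (l b + l c) (Eventually.of_forall fun a hs => by simp [hl _ a hs]), map_add, map_add]

/-- Points of finitely presented algebras with given residues descend to almost all factors. -/
theorem exists_algHom_through_of_uprod {R B : Type u} [CommRing R] [CommRing B] [Algebra R B]
    [Algebra.FinitePresentation R B] (ρ : ∀ a, R →+* V a) (σ : B →+* UProd U V)
    (hσ : ∀ r, σ (algebraMap R B r) = germ U V fun a => ρ a r)
    {S : α → Prop} (hS : ∀ᶠ a in (U : Filter α), S a)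
    (τ : ∀ a, S a → (B →+* IsLocalRing.ResidueField (V a)))
    (hτ : ∀ a (hs : S a) (r : R), τ a hs (algebraMap R B r) = IsLocalRing.residue (V a) (ρ a r))
    (hres : ∀ (b : B) (x : ∀ a, V a), σ b = germ U V x →
      ∀ᶠ a in (U : Filter α), ∀ hs : S a, IsLocalRing.residue (V a) (x a) = τ a hs b) :
    ∀ᶠ a in (U : Filter α), ∃ hs : S a, ∃ s : B →+* V a,
      s.comp (algebraMap R B) = ρ a ∧ (IsLocalRing.residue (V a)).comp s = τ a hs := by
  classical
  obtain ⟨n, q, hq, hker⟩ := Algebra.FinitePresentation.out (R := R) (A := B)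
  choose t ht using fun i => germ_surjective U V (σ (q (MvPolynomial.X i)))
  let ev : MvPolynomial (Fin n) R →+* (∀ a, V a) :=
    MvPolynomial.eval₂Hom (Pi.ringHom ρ) t
  have hev : (germ U V).comp ev = σ.comp q.toRingHom := by
    refine MvPolynomial.ringHom_ext (fun r => ?_) (fun i => ?_)
    · simp only [RingHom.comp_apply, ev, MvPolynomial.eval₂Hom_C, AlgHom.toRingHom_eq_coe, RingHom.coe_coe]
      rw [← MvPolynomial.algebraMap_eq, AlgHom.commutes, hσ]
      rfl
    · simp only [RingHom.comp_apply, ev, MvPolynomial.eval₂Hom_X', AlgHom.toRingHom_eq_coe, RingHom.coe_coe]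
      exact ht i
  obtain ⟨s, hs⟩ := hker
  have hev' : ∀ F ∈ s, ∀ᶠ a in (U : Filter α), ev F a = 0 := fun F hF => germ_eq_zero.mp (by
    have := RingHom.congr_fun hev F
    simp only [RingHom.comp_apply, AlgHom.toRingHom_eq_coe, RingHom.coe_coe] at this
    rw [this, show q F = 0 from RingHom.mem_ker.mp (hs ▸ Ideal.subset_span hF), map_zero])
  filter_upwards [hS, (eventually_all_finset s).mpr hev',
    eventually_all.mpr fun i => hres _ _ (ht i).symm] with a hS ha hX
  let s' : B →+* V a := RingHom.liftOfSurjective q.toRingHom hq ⟨(Pi.evalRingHom V a).comp ev, by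
    rw [← hs, Ideal.span_le]
    exact fun F hF => ha F hF⟩
  refine ⟨hS, s', ?_⟩
  have hR := hτ a hS
  refine ⟨RingHom.ext fun r => ?_, ?_⟩
  · rw [RingHom.comp_apply, show algebraMap R B r = q.toRingHom (MvPolynomial.C r) from (q.commutes r).symm,
      RingHom.liftOfSurjective_comp_apply]
    simp [ev]
    rfl
  · refine (RingHom.cancel_right hq).mp (MvPolynomial.ringHom_ext (fun r => ?_) fun i => ?_)
    · simp only [RingHom.comp_apply]
      show IsLocalRing.residue (V a) (s' (q.toRingHom (MvPolynomial.C r))) = _
      rw [RingHom.liftOfSurjective_comp_apply,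
        show q.toRingHom (MvPolynomial.C r) = algebraMap R B r from q.commutes r, hR]
      simp [ev]
      rfl
    · simp only [RingHom.comp_apply]
      show IsLocalRing.residue (V a) (s' (q.toRingHom (MvPolynomial.X i))) = _
      rw [RingHom.liftOfSurjective_comp_apply]
      simpa [ev] using hX i hS

end Groth.Agent.SubtrLib
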