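import Groth.Agent.SubtrLib.ValLift

/-! Lifting over valuation rings from lifting over finitely generated test algebras. -/

set_option autoImplicit false
set_option linter.style.haveILetI false
set_option backward.isDefEq.respectTransparency false
universe u

open CategoryTheory CategoryTheory.Limits AlgebraicGeometry TopologicalSpace
open scoped TensorProduct

namespace Groth.Agent.SubtrLib
open Groth.Agent.HTopV

/-- The specialization between the generic and the closed point lifts, affine base. -/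
theorem exists_lift_affine_of_finiteType {R : CommRingCat.{u}} {X : Scheme.{u}} [CompactSpace X]
    (f : X ⟶ Spec R) (hf : ∀ (A : Type u) [CommRing A] (φ : R ⟶ CommRingCat.of A), φ.hom.FiniteType →
      ∀ ⦃z' z : Spec (CommRingCat.of A)⦄, z' ⤳ z → ∃ w' w : ↑(pullback (Spec.map φ) f), w' ⤳ w ∧
        pullback.fst (Spec.map φ) f w' = z' ∧ pullback.fst (Spec.map φ) f w = z) (V : CommRingCat.{u}) [IsDomain V] [ValuationRing V]
    (ρ : R ⟶ V) : ∃ w' w : ↑(pullback (Spec.map ρ) f), w' ⤳ w ∧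
      pullback.fst (Spec.map ρ) f w' = ⟨⊥, Ideal.isPrime_bot⟩ ∧
      pullback.fst (Spec.map ρ) f w = IsLocalRing.closedPoint V := by
  classical
  letI : Algebra R V := ρ.hom.toAlgebra
  let 𝒰 := X.affineCover.finiteSubcover
  haveI : ∀ i, IsAffine (𝒰.X i) := fun i => inferInstanceAs (IsAffine (X.affineCover.X _))
  let ψ : ∀ i, Spec Γ(𝒰.X i, ⊤) ⟶ X := fun i => (𝒰.X i).isoSpec.inv ≫ 𝒰.f i
  choose β hβ using fun i => Spec.map_surjective (ψ i ≫ f)
  letI : ∀ i, Algebra R Γ(𝒰.X i, ⊤) := fun i => (β i).hom.toAlgebra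
  by_cases h : ∃ i, ∃ q' q : PrimeSpectrum (V ⊗[R] Γ(𝒰.X i, ⊤)), q' ≤ q ∧
      q'.asIdeal.comap (Algebra.TensorProduct.includeLeft : V →ₐ[R] V ⊗[R] Γ(𝒰.X i, ⊤)) = ⊥ ∧
      q.asIdeal.comap (Algebra.TensorProduct.includeLeft : V →ₐ[R] V ⊗[R] Γ(𝒰.X i, ⊤)) =
        IsLocalRing.maximalIdeal V
  · obtain ⟨i, q', q, hle, h', hq⟩ := h
    let e := pullbackSpecIso R V Γ(𝒰.X i, ⊤)
    let m : pullback (Spec.map (CommRingCat.ofHom (algebraMap R V)))
        (Spec.map (CommRingCat.ofHom (algebraMap R Γ(𝒰.X i, ⊤)))) ⟶ pullback (Spec.map ρ) f :=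
      pullback.lift (pullback.fst _ _) (pullback.snd _ _ ≫ ψ i) (by
        rw [Category.assoc, ← hβ i]; exact pullback.condition)
    let k := e.inv ≫ m
    have hk : k ≫ pullback.fst (Spec.map ρ) f =
        Spec.map (CommRingCat.ofHom (Algebra.TensorProduct.includeLeftRingHom)) := by
      simp only [k, m, Category.assoc, pullback.lift_fst]
      exact pullbackSpecIso_inv_fst R V Γ(𝒰.X i, ⊤)
    refine ⟨k q', k q, ((PrimeSpectrum.le_iff_specializes q' q).mp hle).map k.continuous, ?_, ?_⟩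
    · rw [← Scheme.Hom.comp_apply, hk]
      exact PrimeSpectrum.ext h'
    · rw [← Scheme.Hom.comp_apply, hk]
      exact PrimeSpectrum.ext hq
  · exfalso
    push Not at h
    have : ∀ i, ∃ A : Subalgebra R V, A.FG ∧ Obstructed Γ(𝒰.X i, ⊤) A := fun i =>
      (exists_primes_or_obstructed (R := R) (V := V) Γ(𝒰.X i, ⊤)).resolve_left
        (fun ⟨q', q, a, b, c⟩ => h i q' q a b c)
    choose A hA hobs using this
    let A₀ := Finset.univ.sup A
    have hA₀ : A₀.FG := Finset.sup_induction Subalgebra.fg_bot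
      (fun a ha b hb => ha.sup hb) (fun i _ => hA i)
    have hle : ∀ i, A i ≤ A₀ := fun i => Finset.le_sup (Finset.mem_univ i)
    haveI : Algebra.FiniteType R A₀ := ⟨(Subalgebra.fg_top _).mpr hA₀⟩
    let t : Spec (CommRingCat.of A₀) ⟶ Spec R := Spec.map (CommRingCat.ofHom (algebraMap R A₀))
    let z' : Spec (CommRingCat.of A₀) := ⟨⊥, Ideal.isPrime_bot⟩
    let z : Spec (CommRingCat.of A₀) := ⟨centre A₀, Ideal.IsPrime.comap _⟩
    obtain ⟨w', w, hw, h', hz⟩ := hf A₀ (CommRingCat.ofHom (algebraMap R A₀))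
      (RingHom.finiteType_algebraMap.mpr ‹_›)
      (show z' ⤳ z from (PrimeSpectrum.le_iff_specializes z' z).mp bot_le)
    obtain ⟨y, hy⟩ := 𝒰.covers (pullback.snd t f w)
    let i := 𝒰.idx (pullback.snd t f w)
    have hi : pullback.snd t f w ∈ Set.range (ψ i) := by
      refine ⟨(𝒰.X i).isoSpec.hom y, ?_⟩
      rw [← Scheme.Hom.comp_apply, Iso.hom_inv_id_assoc]
      exact hy
    obtain ⟨v, hv⟩ := hi
    let m : pullback t (Spec.map (CommRingCat.ofHom (algebraMap R Γ(𝒰.X i, ⊤)))) ⟶ pullback t f :=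
      pullback.map _ _ _ _ (𝟙 _) (ψ i) (𝟙 _) (by simp) (by rw [Category.comp_id]; exact hβ i)
    have hm : IsPullback m (pullback.snd _ _) (pullback.snd t f) (ψ i) := by
      refine IsPullback.of_bot ?_ (by simp [m]) (IsPullback.of_hasPullback t f).flip |>.flip
      simp only [m, pullback.lift_fst, Category.comp_id]
      rw [← hβ i]
      exact (IsPullback.of_hasPullback t _).flip
    haveI : IsOpenImmersion (ψ i) := inferInstance
    haveI : IsOpenImmersion m := MorphismProperty.of_isPullback (P := @IsOpenImmersion) hm.flip ‹_›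
    obtain ⟨v₀, hv₀, -⟩ := Scheme.exists_preimage_of_isPullback hm w v hv.symm
    obtain ⟨v₁, hv₁⟩ := hw.mem_open m.isOpenEmbedding.isOpen_range ⟨v₀, hv₀⟩
    replace hw : m v₁ ⤳ m v₀ := by rw [hv₁, hv₀]; exact hw
    replace h' : pullback.fst t f (m v₁) = z' := by rw [hv₁]; exact h'
    replace hz : pullback.fst t f (m v₀) = z := by rw [hv₀]; exact hz
    let e := pullbackSpecIso R A₀ Γ(𝒰.X i, ⊤)
    have hfst : ∀ x, Spec.map (CommRingCat.ofHom (Algebra.TensorProduct.includeLeftRingHom))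
        (e.hom x) = pullback.fst t f (m x) := fun x => by
      rw [← Scheme.Hom.comp_apply, pullbackSpecIso_hom_fst, ← Scheme.Hom.comp_apply]
      congr 1
      simp [m, t]
    refine ((hobs i).mono _ (hle i)).false_of_primes _ (e.hom v₁) (e.hom v₀) ?_ ?_ ?_
    · exact (PrimeSpectrum.le_iff_specializes _ _).mpr
        ((m.isOpenEmbedding.isInducing.specializes_iff.mp hw).map e.hom.continuous)
    · exact (congrArg PrimeSpectrum.asIdeal (hfst v₁)).trans (congrArg PrimeSpectrum.asIdeal h')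
    · exact ((congrArg PrimeSpectrum.asIdeal (hfst v₀)).trans (congrArg PrimeSpectrum.asIdeal hz)).ge

end Groth.Agent.SubtrLib
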