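import Groth.Agent.SubtrLib.AIC
import Mathlib

/-! # Ultraproducts of absolutely integrally closed valuation rings -/

set_option autoImplicit false
universe u

open Filter

namespace Groth.Agent.SubtrLib

variable {α : Type u} (U : Ultrafilter α) (V : α → Type u) [∀ a, CommRing (V a)]

/-- Families vanishing almost everywhere. -/
def nullIdeal : Ideal (∀ a, V a) where
  carrier := {x | ∀ᶠ a in (U : Filter α), x a = 0}
  add_mem' := fun {x y} hx hy => by
    filter_upwards [hx, hy] with a ha hb
    show x a + y a = 0
    rw [ha, hb, add_zero]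
  zero_mem' := Eventually.of_forall fun _ => rfl
  smul_mem' := fun c x hx => by
    filter_upwards [hx] with a ha
    show c a * x a = 0
    rw [ha, mul_zero]

/-- The ultraproduct. -/
abbrev UProd : Type u := (∀ a, V a) ⧸ nullIdeal U V

/-- The class of a family. -/
def germ : (∀ a, V a) →+* UProd U V := Ideal.Quotient.mk _

theorem germ_surjective : Function.Surjective (germ U V) := Ideal.Quotient.mk_surjective

variable {U V}

theorem germ_eq_zero {x : ∀ a, V a} : germ U V x = 0 ↔ ∀ᶠ a in (U : Filter α), x a = 0 :=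
  Ideal.Quotient.eq_zero_iff_mem

theorem germ_eq {x y : ∀ a, V a} : germ U V x = germ U V y ↔ ∀ᶠ a in (U : Filter α), x a = y a := by
  rw [← sub_eq_zero, ← map_sub, germ_eq_zero]
  simp only [Pi.sub_apply, sub_eq_zero]

variable [∀ a, IsDomain (V a)]

instance : IsDomain (UProd U V) := by
  refine (Ideal.Quotient.isDomain_iff_prime _).mpr ⟨fun h => ?_, fun {x y} hxy => ?_⟩
  · have h1 : ∀ᶠ a in (U : Filter α), (1 : ∀ a, V a) a = 0 := (nullIdeal U V).eq_top_iff_one.mp h
    exact (h1.and (Eventually.of_forall fun a => one_ne_zero (α := V a))).exists.elim fun a ha => ha.2 ha.1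
  · refine Ultrafilter.eventually_or.mp ?_
    exact (show ∀ᶠ a in (U : Filter α), x a * y a = 0 from hxy).mono fun a ha => mul_eq_zero.mp ha

variable [∀ a, ValuationRing (V a)]

instance : ValuationRing (UProd U V) := by
  classical
  refine ValuationRing.iff_dvd_total.mpr ⟨fun x y => ?_⟩
  obtain ⟨x, rfl⟩ := germ_surjective U V x
  obtain ⟨y, rfl⟩ := germ_surjective U V y
  rcases Ultrafilter.eventually_or.mp (Eventually.of_forall (f := (U : Filter α))
      fun a => ValuationRing.dvd_total (x a) (y a)) with h | h
  · refine Or.inl ⟨germ U V fun a => if h : x a ∣ y a then h.choose else 0, ?_⟩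
    rw [← map_mul, germ_eq]
    filter_upwards [h] with a ha
    rw [Pi.mul_apply, dif_pos ha]
    exact ha.choose_spec
  · refine Or.inr ⟨germ U V fun a => if h : y a ∣ x a then h.choose else 0, ?_⟩
    rw [← map_mul, germ_eq]
    filter_upwards [h] with a ha
    rw [Pi.mul_apply, dif_pos ha]
    exact ha.choose_spec

set_option synthInstance.maxHeartbeats 400000 in
instance : IsLocalRing (UProd U V) := inferInstance

omit [∀ a, ValuationRing (V a)] in
theorem isUnit_germ_iff {x : ∀ a, V a} : IsUnit (germ U V x) ↔ ∀ᶠ a in (U : Filter α), IsUnit (x a) := by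
  classical
  constructor
  · intro h
    obtain ⟨y, hy⟩ := h.exists_right_inv
    obtain ⟨y, rfl⟩ := germ_surjective U V y
    rw [← map_mul, ← map_one (germ U V), germ_eq] at hy
    exact hy.mono fun a ha => IsUnit.of_mul_eq_one (y a) ha
  · intro h
    refine IsUnit.of_mul_eq_one (germ U V fun a => if h : IsUnit (x a) then (↑h.unit⁻¹ : V a) else 0) ?_
    rw [← map_mul, ← map_one (germ U V), germ_eq]
    filter_upwards [h] with a ha
    rw [Pi.mul_apply, dif_pos ha]
    exact ha.mul_val_inv

theorem germ_mem_maximalIdeal {x : ∀ a, V a} : germ U V x ∈ IsLocalRing.maximalIdeal (UProd U V) ↔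
    ∀ᶠ a in (U : Filter α), x a ∈ IsLocalRing.maximalIdeal (V a) := by
  simp only [IsLocalRing.mem_maximalIdeal, mem_nonunits_iff, isUnit_germ_iff, Ultrafilter.eventually_not]

omit [∀ a, ValuationRing (V a)] in
theorem isAIC_uprod (hV : ∀ a, IsAIC (V a)) : IsAIC (UProd U V) := by
  classical
  intro g hg hd
  obtain ⟨G, hG, hdeg, hGm⟩ := Polynomial.lifts_and_degree_eq_and_monic
    ((Polynomial.lifts_iff_coeff_lifts g).mpr fun i => germ_surjective U V _) hg
  have hdeg' : G.natDegree = g.natDegree := Polynomial.natDegree_eq_of_degree_eq hdeg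
  choose x hx using fun a => hV a (G.map (Pi.evalRingHom V a)) (hGm.map _) (by
    rw [hGm.natDegree_map]; omega)
  refine ⟨germ U V x, ?_⟩
  rw [← hG, Polynomial.eval_map, Polynomial.eval₂_at_apply, germ_eq_zero]
  refine Eventually.of_forall fun a => ?_
  show Pi.evalRingHom V a (G.eval x) = 0
  rw [← Polynomial.eval₂_at_apply, ← Polynomial.eval_map]
  exact hx a

/-- A ring map given almost everywhere. -/
noncomputable def germHom {R : Type u} [CommRing R] {S : α → Prop} (hS : ∀ᶠ a in (U : Filter α), S a)
    (φ : ∀ a, S a → (R →+* V a)) : R →+* UProd U V := by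
  classical
  exact
  { toFun := fun r => germ U V fun a => if h : S a then φ a h r else 0
    map_one' := by
      rw [← map_one (germ U V), germ_eq]
      filter_upwards [hS] with a ha
      simp [ha]
    map_mul' := fun r s => by
      rw [← map_mul, germ_eq]
      filter_upwards [hS] with a ha
      simp [ha]
    map_zero' := by
      rw [← map_zero (germ U V), germ_eq]
      filter_upwards [hS] with a ha
      simp [ha]
    map_add' := fun r s => by
      rw [← map_add, germ_eq]
      filter_upwards [hS] with a ha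
      simp [ha] }

omit [∀ a, IsDomain (V a)] [∀ a, ValuationRing (V a)] in
theorem germHom_eq_germ {R : Type u} [CommRing R] {S : α → Prop} (hS : ∀ᶠ a in (U : Filter α), S a)
    (φ : ∀ a, S a → (R →+* V a)) {r : R} {x : ∀ a, V a}
    (h : ∀ᶠ a in (U : Filter α), ∀ hs : S a, φ a hs r = x a) : germHom hS φ r = germ U V x := by
  classical
  show germ U V _ = _
  rw [germ_eq]
  filter_upwards [hS, h] with a ha hb
  rw [dif_pos ha]
  exact hb ha

omit [∀ a, ValuationRing (V a)] in
/-- Points of finitely presented algebras descend to almost all factors. -/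
theorem exists_algHom_of_uprod {R B : Type u} [CommRing R] [CommRing B] [Algebra R B]
    [Algebra.FinitePresentation R B] (ρ : ∀ a, R →+* V a) (σ : B →+* UProd U V)
    (hσ : ∀ r, σ (algebraMap R B r) = germ U V fun a => ρ a r) :
    ∀ᶠ a in (U : Filter α), ∃ s : B →+* V a, s.comp (algebraMap R B) = ρ a := by
  classical
  obtain ⟨n, q, hq, hker⟩ := Algebra.FinitePresentation.out (R := R) (A := B)
  choose t ht using fun i => germ_surjective U V (σ (q (MvPolynomial.X i)))
  let ev : MvPolynomial (Fin n) R →+* (∀ a, V a) :=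
    MvPolynomial.eval₂Hom (Pi.ringHom ρ) t
  have hev : (germ U V).comp ev = σ.comp q.toRingHom := by
    refine MvPolynomial.ringHom_ext (fun r => ?_) (fun i => ?_)
    · simp only [RingHom.comp_apply, ev, MvPolynomial.eval₂Hom_C, AlgHom.toRingHom_eq_coe, RingHom.coe_coe]
      rw [← MvPolynomial.algebraMap_eq, AlgHom.commutes, hσ]
      rfl
    · simp only [RingHom.comp_apply, ev, MvPolynomial.eval₂Hom_X', AlgHom.toRingHom_eq_coe, RingHom.coe_coe]
      exact ht i
  obtain ⟨s, hs⟩ := hker
  have hev' : ∀ F ∈ s, ∀ᶠ a in (U : Filter α), ev F a = 0 := fun F hF => germ_eq_zero.mp (by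
    have := RingHom.congr_fun hev F
    simp only [RingHom.comp_apply, AlgHom.toRingHom_eq_coe, RingHom.coe_coe] at this
    rw [this, show q F = 0 from RingHom.mem_ker.mp (hs ▸ Ideal.subset_span hF), map_zero])
  filter_upwards [(eventually_all_finset s).mpr hev'] with a ha
  refine ⟨RingHom.liftOfSurjective q.toRingHom hq ⟨(Pi.evalRingHom V a).comp ev, ?_⟩, ?_⟩
  · rw [← hs, Ideal.span_le]
    exact fun F hF => ha F hF
  · ext r
    rw [RingHom.comp_apply, show algebraMap R B r = q.toRingHom (MvPolynomial.C r) from (q.commutes r).symm,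
      RingHom.liftOfSurjective_comp_apply]
    simp [ev]
    rfl

end Groth.Agent.SubtrLib
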